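import Cfsg.Agent.H36.J2U.Recog
import Cfsg.Agent.H89.J2Two
import Cfsg.Agent.H91.J2Simple

/-!
The Hall–Janko group of the Prelude satisfies the hypothesis of Hall–Janko type.
-/

set_option autoImplicit false

namespace H36.J2U

open Cfsg.Spor H96 H96.J2

local notation "A5" => alternatingGroup (Fin 5)

theorem a5_normal_top : ∀ K : Subgroup A5, K.Normal → K = ⊥ ∨ K = ⊤ := fun K hK => by
  haveI := alternatingGroup.isSimpleGroup (α := Fin 5) (by rw [Nat.card_eq_fintype_card, Fintype.card_fin])
  exact hK.eq_bot_or_eq_top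

/-- A word giving an involution of the second class. -/
def invWord : List ℕ := [0, 1, 0, 2, 3, 1, 4, 3]

theorem invWord_check : (∀ i : Fin 315, H91.J2T.app invWord (H91.J2T.app invWord i.val) = i.val) ∧
    H91.J2T.app invWord 1 ≠ 1 := by
  decide +kernel

theorem invWord_fixed : ((List.range 315).filter fun i => decide (H91.J2T.app invWord i = i)).length = 15 ∧
    ((List.range 315).filter fun i => decide (H91.J2T.app [0] i = i)).length = 11 := by
  decide +kernel

theorem card_fixed {w : List ℕ} (hw : ∀ a ∈ w, a < 5) :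
    (Finset.univ.filter fun i => H91.J2A.act (H91.J2A.wordElt w) i = i).card =
      ((List.range 315).filter fun i => decide (H91.J2T.app w i = i)).length := by
  classical
  rw [← List.toFinset_card_of_nodup (List.nodup_range.filter _)]
  refine Finset.card_bij (fun i _ => i.val) (fun i hi => ?_) (fun i _ j _ h => Fin.ext h) fun j hj => ?_
  · simp only [Finset.mem_filter, Finset.mem_univ, true_and] at hi
    simp only [List.mem_toFinset, List.mem_filter, List.mem_range, decide_eq_true_eq]
    exact ⟨i.isLt, by rw [← H91.J2A.act_word w hw, hi]⟩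
  · simp only [List.mem_toFinset, List.mem_filter, List.mem_range, decide_eq_true_eq] at hj
    exact ⟨⟨j, hj.1⟩, by
      simp only [Finset.mem_filter, Finset.mem_univ, true_and]
      exact Fin.ext ((H91.J2A.act_word w hw _).trans hj.2), rfl⟩

theorem two_classes : ∃ a b : J2, orderOf a = 2 ∧ orderOf b = 2 ∧ ¬ IsConj a b := by
  classical
  haveI : Fact (Nat.Prime 2) := ⟨Nat.prime_two⟩
  have hw : ∀ a ∈ invWord, a < 5 := by decide
  have h0 : ∀ a ∈ ([0] : List ℕ), a < 5 := by decide
  obtain ⟨hsq, hne⟩ := invWord_check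
  have ha : H91.J2A.wordElt [0] = H91.J2A.rho (H91.J2A.gl 0) := by
    simp [H91.J2A.wordElt, H91.J2A.gen]
  refine ⟨H91.J2A.wordElt [0], H91.J2A.wordElt invWord, ?_, ?_, fun hc => ?_⟩
  · rw [ha]
    exact orderOf_eq_prime (by rw [pow_two]; exact H91.J2A.rho_sq _) (H91.J2A.rho_ne_one _)
  · refine orderOf_eq_prime (H91.J2A.act_injective ?_) fun e => hne ?_
    · rw [pow_two, map_mul, map_one]
      refine Equiv.ext fun i => Fin.ext ?_
      rw [Equiv.Perm.mul_apply, H91.J2A.act_word _ hw, H91.J2A.act_word _ hw]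
      exact hsq i
    · refine (H91.J2A.act_word _ hw (1 : Fin 315)).symm.trans ?_
      rw [e, map_one H91.J2A.act]
      rfl
  · obtain ⟨g, hg⟩ := isConj_iff.mp hc
    have h1 := card_fixed h0
    have h2 := card_fixed hw
    rw [invWord_fixed.2] at h1
    rw [invWord_fixed.1, ← hg, map_mul, map_mul, map_inv] at h2
    set p := H91.J2A.act (H91.J2A.wordElt [0])
    set q := H91.J2A.act g
    have h3 : (Finset.univ.filter fun i => (q * p * q⁻¹) i = i) =
        (Finset.univ.filter fun i => p i = i).image q := by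
      refine Finset.ext fun i => ?_
      rw [Finset.mem_image, Finset.mem_filter]
      constructor
      · rintro ⟨-, hi⟩
        refine ⟨q⁻¹ i, Finset.mem_filter.mpr ⟨Finset.mem_univ _, q.injective ?_⟩, q.apply_symm_apply i⟩
        exact Eq.trans hi (q.apply_symm_apply i).symm
      · rintro ⟨j, hj, rfl⟩
        refine ⟨Finset.mem_univ _, ?_⟩
        show q (p (q.symm (q j))) = q j
        rw [q.symm_apply_apply, (Finset.mem_filter.mp hj).2]
    rw [h3, Finset.card_image_of_injective _ q.injective, h1] at h2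
    omega

/-- `J₂` is of Hall–Janko type. -/
theorem j2_two : ∃ χ, HJ.Two refl0bar H89.J2Two.R χ := by
  haveI : Finite stabBase := Nat.finite_of_card_ne_zero (by rw [card_stabBase]; norm_num)
  haveI : Finite J2 := Nat.finite_of_card_ne_zero (by rw [card_J2]; norm_num)
  set C := Subgroup.centralizer ({refl0bar} : Set J2) with hC
  obtain ⟨χ, D⟩ := H89.J2Two.exists_data
  have hz2 : refl0bar * refl0bar = 1 := by
    have h : refl0 * refl0 = (1 : twoJ2) := H91.J2A.rho2_sq 0
    exact (map_mul H89.J2Two.mkJ refl0 refl0).symm.trans ((congrArg H89.J2Two.mkJ h).trans (map_one _))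
  haveI : Fact (Nat.Prime 2) := ⟨Nat.prime_two⟩
  have hz : orderOf refl0bar = 2 := orderOf_eq_prime (by rw [pow_two, hz2]) D.t_ne
  have hextra : Cfsg.IsExtraspecial 2 H89.J2Two.R := by
    have hinj : Function.Injective (H89.J2Two.mkJ.comp stabBase.subtype) :=
      (injective_iff_map_eq_one _).mpr fun g hg => stabIncl_injective (by
        rw [map_one]; exact Subtype.ext hg)
    have hr : (H89.J2Two.mkJ.comp stabBase.subtype).range = H89.J2Two.R := by
      rw [H89.J2Two.R, MonoidHom.range_comp, Subgroup.range_subtype]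
    exact HJ.isExtraspecial_congr ((MonoidHom.ofInjective hinj).trans (MulEquiv.subgroupCongr hr))
      stab_extraspecial
  refine ⟨χ, ⟨hz, D.le, D.surj, D.ker, hextra, D.card_R, D.t_mem, fun g hg hq => ?_, D.fused_in⟩,
    two_classes⟩
  set K : Subgroup C := (Subgroup.centralizer (H89.J2Two.R : Set J2)).comap C.subtype
  have hgC : g ∈ C := Subgroup.mem_centralizer_singleton_iff.mpr hg.eq
  have hgK : (⟨g, hgC⟩ : C) ∈ K :=
    Subgroup.mem_centralizer_iff.mpr fun q hq' => (hq q hq').eq.symm
  have hKn : K.Normal := ⟨fun k hk r => by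
    refine Subgroup.mem_centralizer_iff.mpr fun q hq' => ?_
    have hn := (Subgroup.mem_normalizer_iff.mp (D.le_normalizer (inv_mem r.2)) q).mp hq'
    have := Subgroup.mem_centralizer_iff.mp hk _ hn
    simp only [inv_inv] at this
    show q * ((r : J2) * (k : J2) * (r : J2)⁻¹) = (r : J2) * (k : J2) * (r : J2)⁻¹ * q
    calc q * ((r : J2) * (k : J2) * (r : J2)⁻¹) = r * ((r : J2)⁻¹ * q * r * k) * (r : J2)⁻¹ := by group
      _ = r * (k * ((r : J2)⁻¹ * q * r)) * (r : J2)⁻¹ := by rw [← show _ = (k : J2) * _ from this]; rfl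
      _ = (r : J2) * (k : J2) * (r : J2)⁻¹ * q := by group⟩
  rcases a5_normal_top (K.map χ) (hKn.map χ D.surj) with e | e
  · exact (D.ker ⟨g, hgC⟩).mp (Subgroup.mem_bot.mp (e ▸ Subgroup.mem_map_of_mem χ hgK))
  · exfalso
    obtain ⟨y, hy, r, hr, hout⟩ := D.outer
    have hyC : y ∈ C := Subgroup.mem_centralizer_singleton_iff.mpr hy
    obtain ⟨k, hk, hke⟩ : χ ⟨y, hyC⟩ ∈ K.map χ := e ▸ Subgroup.mem_top _
    have hs : (k : J2) * y⁻¹ ∈ H89.J2Two.R := by
      refine (D.ker ⟨(k : J2) * y⁻¹, mul_mem k.2 (inv_mem hyC)⟩).mp ?_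
      rw [show (⟨(k : J2) * y⁻¹, mul_mem k.2 (inv_mem hyC)⟩ : C) = k * ⟨y, hyC⟩⁻¹ from rfl,
        map_mul, map_inv, hke, mul_inv_cancel]
    refine hout _ hs ?_
    rw [inv_mul_cancel_right]
    exact (Subgroup.mem_centralizer_iff.mp hk r hr).symm

/-- Groups of Hall–Janko type are isomorphic to `J₂`. -/
theorem isoJ2_of_two {G : Type*} [Group G] [Finite G] {z : G} {Q : Subgroup G}
    {χ : Subgroup.centralizer ({z} : Set G) →* A5} (W : HJ.Two z Q χ) : Cfsg.Spor.IsoJ2 G := by
  haveI : Finite J2 := Nat.finite_of_card_ne_zero (by rw [card_J2]; norm_num)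
  obtain ⟨χ', W'⟩ := j2_two
  exact equiv_of_two W W'

end H36.J2U
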