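import Cfsg.Agent.H36.J2U.WeakClosure
import Cfsg.Agent.H36.J2U.Instance
import Cfsg.Agent.H91.J2U33

/-!
Simple groups with two involution classes and a centraliser `2^(1+4).A₅` of minus type.
-/

set_option autoImplicit false

namespace H36.J2U

open H36.HJ

local notation "A5" => alternatingGroup (Fin 5)

theorem isoJ2_of_simple {G : Type*} [Group G] [Finite G] [IsSimpleGroup G] (t : G) (ht : orderOf t = 2)
    (Q : Subgroup (Subgroup.centralizer ({t} : Set G))) [Q.Normal] (hQ : Cfsg.IsExtraspecial 2 Q)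
    (hcard : Nat.card Q = 32)
    (hminus : ∀ E : Subgroup Q, Cfsg.IsElementaryAbelian 2 E → Nat.card E ≤ 2 ^ 2)
    (h2c : Subgroup.centralizer (Q : Set (Subgroup.centralizer ({t} : Set G))) ≤ Q)
    (e : (Subgroup.centralizer ({t} : Set G)) ⧸ Q ≃* A5)
    (hcl : ∃ x y : G, orderOf x = 2 ∧ orderOf y = 2 ∧ ¬ IsConj x y) : Cfsg.Spor.IsoJ2 G := by
  classical
  let χ := (e : _ →* A5).comp (QuotientGroup.mk' Q)
  have hker : ∀ g, χ g = 1 ↔ g ∈ Q := fun g => by
    show e (QuotientGroup.mk' Q g) = 1 ↔ g ∈ Q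
    rw [map_eq_one_iff _ e.injective]
    exact QuotientGroup.eq_one_iff g
  set Q' := Q.map (Subgroup.centralizer ({t} : Set G)).subtype
  have hmem : ∀ g : Subgroup.centralizer ({t} : Set G), (g : G) ∈ Q' ↔ g ∈ Q := fun g =>
    Subgroup.mem_map_iff_mem (Subgroup.subtype_injective _)
  have eQ := Q.equivMapOfInjective _ (Subgroup.subtype_injective (Subgroup.centralizer ({t} : Set G)))
  have htm : t ∈ Q' := by
    refine (hmem ⟨t, Subgroup.mem_centralizer_singleton_iff.mpr rfl⟩).mpr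
      (h2c (Subgroup.mem_centralizer_iff.mpr fun q _ => ?_))
    exact Subtype.ext (Subgroup.mem_centralizer_singleton_iff.mp q.2)
  have hcard' : Nat.card Q' = 32 := by rw [← Nat.card_congr eQ.toEquiv, hcard]
  have hm : Minus t Q' χ := by
    refine ⟨ht, Subgroup.map_subtype_le _, e.surjective.comp (QuotientGroup.mk'_surjective Q),
      fun g => (hker g).trans (hmem g).symm, isExtraspecial_congr eQ hQ, hcard', htm, fun E hE => ?_⟩
    have h1 := hminus (E.map (eQ.symm : Q' →* Q)) ⟨⟨⟨?_⟩⟩, ?_⟩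
    · rwa [← Nat.card_congr (E.equivMapOfInjective _ eQ.symm.injective).toEquiv] at h1
    · rintro ⟨_, a, ha, rfl⟩ ⟨_, b, hb, rfl⟩
      refine Subtype.ext ?_
      show (eQ.symm a) * eQ.symm b = eQ.symm b * eQ.symm a
      rw [← map_mul, ← map_mul]
      exact congrArg _ (congrArg Subtype.val (hE.1.1.1 ⟨a, ha⟩ ⟨b, hb⟩))
    · rintro _ ⟨a, ha, rfl⟩
      rw [← map_pow, hE.2 a ha, map_one]
  obtain ⟨g, hgQ, hne⟩ := hm.nwc
  have W : Two t Q' χ := ⟨⟨ht, hm.le, hm.surj, hm.ker, hm.extra, hcard', htm,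
    fun c hc hq => (hmem ⟨c, Subgroup.mem_centralizer_singleton_iff.mpr hc⟩).mpr
      (h2c (Subgroup.mem_centralizer_iff.mpr fun q hq' =>
        Subtype.ext ((hq q ((hmem q).mpr hq')).eq.symm))), g, hgQ, hne⟩, hcl⟩
  exact isoJ2_of_two W

theorem exists_u33 {G : Type*} [Group G] (h : Cfsg.Spor.IsoJ2 G) :
    ∃ (H : Subgroup G) (K : Type) (_ : Field K) (_ : Fintype K),
      Fintype.card K = 9 ∧ Nonempty (H ≃* Cfsg.PSU 3 K 3) := by
  obtain ⟨i⟩ := h
  obtain ⟨j⟩ := H91.J2U.H100_equiv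
  refine ⟨H91.J2A.H100.map (i.symm : Cfsg.Spor.J2 →* G), H91.J2U.F9, inferInstance, inferInstance, ?_,
    ⟨((H91.J2A.H100.equivMapOfInjective _ i.symm.injective).symm).trans j⟩⟩
  rw [H91.J2U.card_F9]; norm_num

end H36.J2U
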