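import Cfsg.Agent.H36.J2U.Data

/-!
A group generated by six elements satisfying the relators has order at most `604800`.
-/

set_option autoImplicit false

namespace H36.J2U

variable {K : Type*} [Group K]

/-- Six generators. -/
structure Six (K : Type*) where
  z : K
  u : K
  w : K
  a : K
  v : K
  e : K

namespace Six

/-- Evaluation of the numbered generators. -/
def ev (s : Six K) : Nat → K
  | 0 => s.z
  | 1 => s.u
  | 2 => s.w
  | 3 => s.w⁻¹
  | 4 => s.a
  | 5 => s.a⁻¹
  | 6 => s.v
  | 7 => s.e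
  | _ => 1

/-- The subgroup generated by the six elements. -/
def gp (s : Six K) : Subgroup K := Subgroup.closure {s.z, s.u, s.w, s.a, s.v, s.e}

/-- The relators hold. -/
def Rels (s : Six K) : Prop := ∀ w ∈ relators, (w.map s.ev).prod = 1

theorem sq (s : Six K) (h : s.Rels) {g : Nat} (hg : [g, g] ∈ relators) : (s.ev g)⁻¹ = s.ev g :=
  inv_eq_of_mul_eq_one_right (by simpa using h _ hg)

theorem ev_inv (s : Six K) (h : s.Rels) : ∀ g, s.ev ([0, 1, 3, 2, 5, 4, 6, 7, 8].getD g g) = (s.ev g)⁻¹
  | 0 => (s.sq h (g := 0) (by decide)).symm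
  | 1 => (s.sq h (g := 1) (by decide)).symm
  | 2 => rfl
  | 3 => (inv_inv _).symm
  | 4 => rfl
  | 5 => (inv_inv _).symm
  | 6 => (s.sq h (g := 6) (by decide)).symm
  | 7 => (s.sq h (g := 7) (by decide)).symm
  | 8 => inv_one.symm
  | n + 9 => inv_one.symm

theorem valid (s : Six K) (h : s.Rels) (C : Cert) (he : C.eps = 8)
    (hi : C.inv = [0, 1, 3, 2, 5, 4, 6, 7, 8]) (hr : C.rels = relators) {H : Subgroup K}
    (hs : ∀ g ∈ C.sub, s.ev g ∈ H) : C.Valid s.ev H where
  eps := by rw [he]; rfl
  inv g := by rw [Cert.flip, hi]; exact s.ev_inv h g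
  rels := by rw [hr]; exact h
  sub := hs

theorem card_gp_le [Finite K] (s : Six K) (h : s.Rels) : Nat.card s.gp ≤ 604800 := by
  have ea : certA.sub = [] := rfl
  have eh : certH.sub = certA.gens := rfl
  have eg : ∀ g ∈ certG.sub, g ∈ certH.gens := by
    rw [show certG.sub = [4, 5, 6, 7, 1, 0] from rfl, show certH.gens = [0, 1, 4, 5, 6, 7] from rfl]
    decide
  set L1 := Subgroup.closure (s.ev '' {g | g ∈ certA.gens})
  set L2 := Subgroup.closure (s.ev '' {g | g ∈ certH.gens})
  set L3 := Subgroup.closure (s.ev '' {g | g ∈ certG.gens})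
  have la : certA.live.length = 60 := by decide +kernel
  have lh : certH.live.length = 32 := by decide +kernel
  have lg : certG.live.length = 315 := by decide +kernel
  have h1 : Nat.card L1 ≤ Nat.card (⊥ : Subgroup K) * 60 :=
    la ▸ Cert.card_le (s.valid h certA rfl rfl rfl (fun g hg => absurd hg (by rw [ea]; simp)))
      certA_facts certA_closed
  have h2 : Nat.card L2 ≤ Nat.card L1 * 32 :=
    lh ▸ Cert.card_le (s.valid h certH rfl rfl rfl
      (fun g hg => Subgroup.subset_closure ⟨g, eh ▸ hg, rfl⟩))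
      certH_facts certH_closed
  have h3 : Nat.card L3 ≤ Nat.card L2 * 315 :=
    lg ▸ Cert.card_le (s.valid h certG rfl rfl rfl
      (fun g hg => Subgroup.subset_closure ⟨g, eg g hg, rfl⟩))
      certG_facts certG_closed
  have hle : s.gp ≤ L3 := by
    refine (Subgroup.closure_le _).mpr ?_
    intro x hx
    simp only [Set.mem_insert_iff, Set.mem_singleton_iff] at hx
    rcases hx with rfl | rfl | rfl | rfl | rfl | rfl
    exacts [Subgroup.subset_closure ⟨0, by decide, rfl⟩, Subgroup.subset_closure ⟨1, by decide, rfl⟩,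
      Subgroup.subset_closure ⟨2, by decide, rfl⟩, Subgroup.subset_closure ⟨4, by decide, rfl⟩,
      Subgroup.subset_closure ⟨6, by decide, rfl⟩, Subgroup.subset_closure ⟨7, by decide, rfl⟩]
  rw [show Nat.card (⊥ : Subgroup K) = 1 from Nat.card_unique, one_mul] at h1
  have h4 : Nat.card s.gp ≤ Nat.card L3 := Nat.le_of_dvd Nat.card_pos (Subgroup.card_dvd_of_le hle)
  omega

/-- A homomorphism applied to the generators. -/
def map {K' : Type*} [Group K'] (f : K →* K') (s : Six K) : Six K' :=
  ⟨f s.z, f s.u, f s.w, f s.a, f s.v, f s.e⟩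

theorem map_ev {K' : Type*} [Group K'] (f : K →* K') (s : Six K) : ∀ g, (s.map f).ev g = f (s.ev g)
  | 0 => rfl
  | 1 => rfl
  | 2 => rfl
  | 3 => (map_inv f _).symm
  | 4 => rfl
  | 5 => (map_inv f _).symm
  | 6 => rfl
  | 7 => rfl
  | _ + 8 => (map_one f).symm

theorem gp_map {K' : Type*} [Group K'] (f : K →* K') (s : Six K) : (s.map f).gp = s.gp.map f := by
  rw [gp, gp, MonoidHom.map_closure]
  simp [Set.image_insert_eq, map]

/-- Pairing two sextuples. -/
def pair {K' : Type*} (s : Six K) (s' : Six K') : Six (K × K') :=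
  ⟨(s.z, s'.z), (s.u, s'.u), (s.w, s'.w), (s.a, s'.a), (s.v, s'.v), (s.e, s'.e)⟩

theorem pair_rels {K' : Type*} [Group K'] {s : Six K} {s' : Six K'} (h : s.Rels) (h' : s'.Rels) :
    (s.pair s').Rels := by
  intro w hw
  refine Prod.ext ?_ ?_
  · rw [show ((w.map (s.pair s').ev).prod).1 = MonoidHom.fst K K' ((w.map (s.pair s').ev).prod) from rfl,
      map_list_prod, List.map_map]
    refine (congrArg List.prod (List.map_congr_left fun g _ => ?_)).trans (h w hw)
    show MonoidHom.fst K K' ((s.pair s').ev g) = s.ev g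
    rw [← map_ev]; rfl
  · rw [show ((w.map (s.pair s').ev).prod).2 = MonoidHom.snd K K' ((w.map (s.pair s').ev).prod) from rfl,
      map_list_prod, List.map_map]
    refine (congrArg List.prod (List.map_congr_left fun g _ => ?_)).trans (h' w hw)
    show MonoidHom.snd K K' ((s.pair s').ev g) = s'.ev g
    rw [← map_ev]; rfl

end Six

/-- Two groups of order `604800` generated by sextuples satisfying the relators are isomorphic. -/
theorem equiv_of_rels {G G' : Type*} [Group G] [Group G'] [Finite G] [Finite G'] {s : Six G} {s' : Six G'}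
    (h : s.Rels) (h' : s'.Rels) (hs : s.gp = ⊤) (hs' : s'.gp = ⊤) (hc : Nat.card G = 604800)
    (hc' : Nat.card G' = 604800) : Nonempty (G ≃* G') := by
  set p := s.pair s'
  have hle := p.card_gp_le (Six.pair_rels h h')
  let f : p.gp →* G := (MonoidHom.fst G G').comp p.gp.subtype
  let f' : p.gp →* G' := (MonoidHom.snd G G').comp p.gp.subtype
  have hf : Function.Surjective f := by
    intro g
    have hg : g ∈ p.gp.map (MonoidHom.fst G G') := by
      rw [← Six.gp_map, show p.map (MonoidHom.fst G G') = s from rfl, hs]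
      trivial
    obtain ⟨x, hx, rfl⟩ := hg
    exact ⟨⟨x, hx⟩, rfl⟩
  have hf' : Function.Surjective f' := by
    intro g
    have hg : g ∈ p.gp.map (MonoidHom.snd G G') := by
      rw [← Six.gp_map, show p.map (MonoidHom.snd G G') = s' from rfl, hs']
      trivial
    obtain ⟨x, hx, rfl⟩ := hg
    exact ⟨⟨x, hx⟩, rfl⟩
  have e1 : Nat.card p.gp = Nat.card G := by
    have := Nat.card_le_card_of_surjective _ hf
    omega
  have b1 : Function.Bijective f := (Nat.bijective_iff_surjective_and_card f).mpr ⟨hf, e1⟩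
  have b2 : Function.Bijective f' :=
    (Nat.bijective_iff_surjective_and_card f').mpr ⟨hf', e1.trans (hc.trans hc'.symm)⟩
  exact ⟨(MulEquiv.ofBijective f b1).symm.trans (MulEquiv.ofBijective f' b2)⟩

end H36.J2U
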