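import Cfsg.Agent.H36.HJ.Five
import Cfsg.Agent.H36.HJ.ThreeCent

/-!
For `W` of order five in `X₀` inverted by `z`, the centraliser of `⟨W, z⟩` has order `60`.
-/

set_option autoImplicit false

namespace H36.J2U

open H36.HJ

local notation "A5" => alternatingGroup (Fin 5)

variable {G : Type*} [Group G] [Finite G]
variable {z : G} {Q : Subgroup G} {χ : Subgroup.centralizer ({z} : Set G) →* A5}
variable {u h x c : G} {X0 : Subgroup G} {w : G}

/-- The common centraliser of `w` and `z`. -/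
def DH (z w : G) : Subgroup G := Subgroup.centralizer ({w} : Set G) ⊓ Subgroup.centralizer ({z} : Set G)

theorem mem_DH {z w g : G} : g ∈ DH z w ↔ Commute g w ∧ Commute g z := by
  simp only [DH, Subgroup.mem_inf, Subgroup.mem_centralizer_singleton_iff]
  exact Iff.rfl

theorem card_cent_five (S : Full z Q χ u h x c X0) (hwX : w ∈ X0) (hwo : orderOf w = 5) :
    Nat.card (Subgroup.centralizer ({w} : Set G)) = 300 := by
  classical
  haveI : Fact (Nat.Prime 5) := ⟨by norm_num⟩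
  obtain ⟨f, hfz, hfo⟩ := S.exists_z5
  have hp : ∀ {a : G}, orderOf a = 5 → IsPGroup 5 (Subgroup.zpowers a) := fun ha =>
    IsPGroup.of_card (n := 1) (by rw [Nat.card_zpowers, ha, pow_one])
  obtain ⟨P, hP⟩ := (hp hwo).exists_le_sylow
  obtain ⟨R, hR⟩ := (hp hfo).exists_le_sylow
  obtain ⟨g, hg⟩ := MulAction.exists_smul_eq G R P
  refine Full.Five.card_Cw (S := S) (P := P) (s := g * f * g⁻¹) ⟨hwX, hwo, hP (Subgroup.mem_zpowers w),
    ?_, ?_, g * z * g⁻¹, isConj_iff.mpr ⟨g, rfl⟩, conj_commute_iff.mpr hfz⟩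
  · exact (orderOf_injective (MulAut.conj g).toMonoidHom (MulAut.conj g).injective f).trans hfo
  · rw [← hg, Sylow.coe_subgroup_smul]
    exact ⟨f, hR (Subgroup.mem_zpowers f), rfl⟩

theorem z_comm_DD (S : Full z Q χ u h x c X0) {d : G} (hd : d ∈ DD (x * c) X0) : Commute d z :=
  S.DD_comm_X0 hd (S.inE_mem Full.inE_z)

theorem DD_le_DH (S : Full z Q χ u h x c X0) (hwX : w ∈ X0) : DD (x * c) X0 ≤ DH z w :=
  fun _ hd => mem_DH.mpr ⟨S.DD_comm_X0 hd hwX, z_comm_DD S hd⟩

theorem DD_invol (S : Full z Q χ u h x c X0) {d : G} (hd : d ∈ DD (x * c) X0) (hd2 : d * d = 1) :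
    d ∈ FF (x * c) X0 := by
  classical
  have hFn : ((FF (x * c) X0).subgroupOf (DD (x * c) X0)).Normal :=
    ⟨fun f hf k => by
      rw [Subgroup.mem_subgroupOf] at hf ⊢
      exact (Subgroup.mem_normalizer_iff.mp (Subgroup.mem_inf.mp k.2).1 (f : G)).mp hf⟩
  have hidx : ((FF (x * c) X0).subgroupOf (DD (x * c) X0)).index = 3 := by
    have := Subgroup.card_mul_index ((FF (x * c) X0).subgroupOf (DD (x * c) X0))
    rw [Nat.card_congr (Subgroup.subgroupOfEquivOfLe S.FF_le_DD).toEquiv, S.card_FF, S.card_DD] at this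
    omega
  have h3 := Subgroup.pow_index_mem ((FF (x * c) X0).subgroupOf (DD (x * c) X0)) ⟨d, hd⟩
  rw [hidx, Subgroup.mem_subgroupOf, SubgroupClass.coe_pow, pow_succ, pow_two, hd2, one_mul] at h3
  exact h3

/-- The centraliser of `⟨w, z⟩` has order `60`. -/
theorem card_DH (S : Full z Q χ u h x c X0) (hwX : w ∈ X0) (hwo : orderOf w = 5)
    (hinv : z * w * z⁻¹ = w⁻¹) : Nat.card (DH z w) = 60 := by
  classical
  have hw : IsOdd w := Or.inr hwo
  set M := Subgroup.centralizer ({w} : Set G)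
  have hMm : ∀ {m : G}, m ∈ M ↔ Commute m w := Subgroup.mem_centralizer_singleton_iff
  have hM : Nat.card M = 300 := card_cent_five S hwX hwo
  have hwM : Subgroup.zpowers w ≤ M := Subgroup.zpowers_le.mpr (hMm.mpr (Commute.refl w))
  have hDM : DD (x * c) X0 ≤ M := fun d hd => hMm.mpr (S.DD_comm_X0 hd hwX)
  have hwX' : Subgroup.zpowers w ≤ X0 := Subgroup.zpowers_le.mpr hwX
  set N := (NN (x * c) X0).subgroupOf M
  have hdec : ∀ {m : G}, m ∈ M → m ∈ NN (x * c) X0 →
      ∃ d ∈ DD (x * c) X0, ∃ k ∈ Subgroup.zpowers w, m = d * k := by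
    intro m hm hmN
    obtain ⟨d, hd, k, hk, rfl⟩ := S.NN_decomp hmN
    refine ⟨d, hd, k, S.cent_X0_odd hwX hw hk ?_, rfl⟩
    have := (S.DD_comm_X0 hd hwX).inv_left.mul_left (hMm.mp hm)
    rwa [inv_mul_cancel_left] at this
  have hN : Nat.card N = 60 := by
    rw [show 60 = Nat.card (DD (x * c) X0) * Nat.card (Subgroup.zpowers w) by
      rw [S.card_DD, Nat.card_zpowers, hwo], ← Nat.card_prod]
    refine (Nat.card_congr (Equiv.ofBijective (fun p : DD (x * c) X0 × Subgroup.zpowers w =>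
      (⟨⟨(p.1 : G) * p.2, mul_mem (hDM p.1.2) (hwM p.2.2)⟩,
        mul_mem (Subgroup.mem_inf.mp p.1.2).1 (S.X_le_NN (S.kernel.le (hwX' p.2.2)))⟩ : N)) ⟨?_, ?_⟩)).symm
    · rintro ⟨a, k⟩ ⟨a', k'⟩ e
      have e' : (a : G) * k = a' * k' := congrArg (fun r : N => ((r : M) : G)) e
      have hm : (a' : G)⁻¹ * a = k' * (k : G)⁻¹ := by
        calc (a' : G)⁻¹ * a = (a' : G)⁻¹ * ((a : G) * k) * (k : G)⁻¹ := by group
          _ = k' * (k : G)⁻¹ := by rw [e']; group
      have h1 : (a' : G)⁻¹ * a = 1 := S.cent_X0_z (hm ▸ hwX' (mul_mem k'.2 (inv_mem k.2)))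
        (fun l hl => S.DD_comm_X0 (mul_mem (inv_mem a'.2) a.2) hl)
      obtain rfl : a' = a := Subtype.ext (inv_mul_eq_one.mp h1)
      exact Prod.ext rfl (Subtype.ext (mul_left_cancel e'))
    · rintro ⟨m, hm⟩
      obtain ⟨d, hd, k, hk, e⟩ := hdec m.2 hm
      exact ⟨(⟨d, hd⟩, ⟨k, hk⟩), Subtype.ext (Subtype.ext e.symm)⟩
  have hΩ : Nat.card (M ⧸ N) = 5 := by
    have := Subgroup.card_eq_card_quotient_mul_card_subgroup N
    rw [hM, hN] at this
    omega
  obtain ⟨g, hg3, hgD, hgz, hny⟩ := S.exists_three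
  have hgN : g ∈ NN (x * c) X0 := (Subgroup.mem_inf.mp hgD).1
  -- a nontrivial element of `F` fixes no coset outside `N`
  have hfree : ∀ f ∈ FF (x * c) X0, f ≠ 1 → ∀ m ∈ M, m⁻¹ * f * m ∈ NN (x * c) X0 →
      m ∈ NN (x * c) X0 := by
    intro f hf hf1 m hm hfm
    set v := m⁻¹ * f * m
    have hvM : v ∈ M := mul_mem (mul_mem (inv_mem hm) (hDM (S.FF_le_DD hf))) hm
    obtain ⟨d, hd, k, hk, e⟩ := hdec hvM hfm
    have hv2 : v * v = 1 := by
      show m⁻¹ * f * m * (m⁻¹ * f * m) = 1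
      rw [show m⁻¹ * f * m * (m⁻¹ * f * m) = m⁻¹ * (f * f) * m by group, S.FF_sq hf, mul_one,
        inv_mul_cancel]
    have hdk : Commute d k := by
      obtain ⟨j, rfl⟩ := Subgroup.mem_zpowers_iff.mp hk
      exact (S.DD_comm_X0 hd hwX).zpow_right j
    have h1 : d * d * (k * k) = 1 := by
      calc d * d * (k * k) = d * (d * k) * k := by group
        _ = d * (k * d) * k := by rw [hdk.eq]
        _ = (d * k) * (d * k) := by group
        _ = 1 := by rw [← e, hv2]
    have hdd : d * d = (k * k)⁻¹ := eq_inv_of_mul_eq_one_left h1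
    have hd2 : d * d = 1 := S.cent_X0_z (hdd ▸ inv_mem (hwX' (mul_mem hk hk)))
      fun l hl => S.DD_comm_X0 (mul_mem hd hd) hl
    rw [hd2, one_mul] at h1
    rw [hw.eq_one_of_sq hk h1, mul_one] at e
    have hvF : v ∈ FF (x * c) X0 := e ▸ DD_invol S hd hd2
    have hv1 : v ≠ 1 := fun e1 => hf1 (by
      rw [show f = m * v * m⁻¹ by simp only [v]; group, e1, mul_one, mul_inv_cancel])
    obtain ⟨n, hn⟩ := S.FF_orbit hgN hg3 hny hvF hv1
    have : m * g ^ n ∈ NN (x * c) X0 := by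
      rw [S.mem_NN, show m * g ^ n * (x * c) * (m * g ^ n)⁻¹ = m * (g ^ n * (x * c) * (g ^ n)⁻¹) * m⁻¹ by
        group, hn, show m * v * m⁻¹ = f by simp only [v]; group]
      exact hf
    simpa using mul_mem this (inv_mem (pow_mem hgN n))
  -- a coset fixed by `g` outside the base
  haveI : Fact (Nat.Prime 3) := ⟨Nat.prime_three⟩
  set gM : M := ⟨g, hDM hgD⟩
  have hgp : IsPGroup 3 (Subgroup.zpowers gM) :=
    IsPGroup.of_card (n := 1) (by rw [Nat.card_zpowers, Subgroup.orderOf_mk, hg3, pow_one])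
  have hmod := hgp.card_modEq_card_fixedPoints (M ⧸ N)
  rw [hΩ] at hmod
  have hbase : ((1 : M) : M ⧸ N) ∈ MulAction.fixedPoints (Subgroup.zpowers gM) (M ⧸ N) := by
    intro k
    show (((k : M) * 1 : M) : M ⧸ N) = _
    rw [mul_one, QuotientGroup.eq, mul_one]
    exact inv_mem (Subgroup.mem_subgroupOf.mpr ((Subgroup.zpowers_le.mpr hgN)
      (by obtain ⟨j, hj⟩ := Subgroup.mem_zpowers_iff.mp k.2; exact ⟨j, by rw [← hj]; rfl⟩)))
  obtain ⟨ω, hω, hω1⟩ : ∃ ω ∈ MulAction.fixedPoints (Subgroup.zpowers gM) (M ⧸ N),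
      ω ≠ ((1 : M) : M ⧸ N) := by
    by_contra hc
    push Not at hc
    haveI : Subsingleton (MulAction.fixedPoints (Subgroup.zpowers gM) (M ⧸ N)) :=
      ⟨fun a b => Subtype.ext ((hc _ a.2).trans (hc _ b.2).symm)⟩
    haveI : Nonempty (MulAction.fixedPoints (Subgroup.zpowers gM) (M ⧸ N)) := ⟨⟨_, hbase⟩⟩
    rw [Nat.card_unique] at hmod
    exact absurd hmod (by decide)
  obtain ⟨m, rfl⟩ := QuotientGroup.mk_surjective ω
  have hmN : (m : G) ∉ NN (x * c) X0 := fun hm => hω1 (by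
    rw [QuotientGroup.eq, mul_one]; exact inv_mem (Subgroup.mem_subgroupOf.mpr hm))
  have hgm : (m : G)⁻¹ * g * m ∈ NN (x * c) X0 := by
    have := hω ⟨gM, Subgroup.mem_zpowers gM⟩
    rw [show (⟨gM, Subgroup.mem_zpowers gM⟩ : Subgroup.zpowers gM) • (m : M ⧸ N) =
      ((gM * m : M) : M ⧸ N) from rfl, QuotientGroup.eq, Subgroup.mem_subgroupOf] at this
    have := inv_mem this
    simpa [gM, mul_assoc] using this
  -- the conjugate of `m` by `z`
  have hzX := S.inE_mem (Full.inE_z (z := z) (u := u))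
  have hzN : z ∈ NN (x * c) X0 := S.X_le_NN (S.kernel.le hzX)
  have hzM : ∀ {a : G}, a ∈ M → z * a * z⁻¹ ∈ M := by
    intro a ha
    have := ((hMm.mp ha).inv_right)
    rw [← hinv] at this
    have h2 := (conj_commute_iff (g := z)).mpr this
    rw [show z * (z * w * z⁻¹) * z⁻¹ = (z * z) * w * (z * z)⁻¹ by group, S.hyp.zz, inv_one, one_mul,
      mul_one] at h2
    exact hMm.mpr h2
  set m' : G := z * m * z⁻¹
  have hm'M : m' ∈ M := hzM m.2
  have hgm' : m'⁻¹ * g * m' ∈ NN (x * c) X0 := by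
    rw [show m'⁻¹ * g * m' = z * ((m : G)⁻¹ * (z⁻¹ * g * z) * m) * z⁻¹ by simp only [m']; group,
      show z⁻¹ * g * z = g by rw [mul_assoc, hgz.eq, inv_mul_cancel_left]]
    exact mul_mem (mul_mem hzN hgm) (inv_mem hzN)
  have hm'N : m' ∉ NN (x * c) X0 := fun hm => hmN (by
    rw [show (m : G) = z⁻¹ * m' * z by simp only [m']; group]
    exact mul_mem (mul_mem (inv_mem hzN) hm) hzN)
  -- `F` is transitive on the four cosets outside the base
  have hFM : ∀ {f : G}, f ∈ FF (x * c) X0 → f ∈ M := fun hf => hDM (S.FF_le_DD hf)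
  let φ : FF (x * c) X0 → {ω : M ⧸ N // ω ≠ ((1 : M) : M ⧸ N)} := fun f =>
    ⟨((⟨(f : G), hFM f.2⟩ * m : M) : M ⧸ N), fun e => hmN (by
      rw [QuotientGroup.eq, mul_one, Subgroup.mem_subgroupOf] at e
      have h2 : (f : G) * m ∈ NN (x * c) X0 := by simpa using inv_mem e
      have := mul_mem (inv_mem (Subgroup.le_normalizer f.2 : (f : G) ∈ NN (x * c) X0)) h2
      rwa [inv_mul_cancel_left] at this)⟩
  have hφ : Function.Injective φ := by
    intro a b e
    have e1 := congrArg Subtype.val e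
    have e2 : (m : G)⁻¹ * ((a : G)⁻¹ * b) * m ∈ NN (x * c) X0 := by
      simpa [mul_assoc] using Subgroup.mem_subgroupOf.mp (QuotientGroup.eq.mp e1)
    by_contra hne
    exact hmN (hfree _ (mul_mem (inv_mem a.2) b.2)
      (fun e3 => hne (Subtype.ext (inv_mul_eq_one.mp e3))) m m.2 e2)
  have hcard4 : Nat.card {ω : M ⧸ N // ω ≠ ((1 : M) : M ⧸ N)} ≤ Nat.card (FF (x * c) X0) := by
    haveI : Fintype (M ⧸ N) := Fintype.ofFinite _
    rw [S.card_FF, Nat.card_eq_fintype_card, Fintype.card_subtype_compl]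
    rw [Nat.card_eq_fintype_card] at hΩ
    simp [hΩ]
  obtain ⟨f, hf⟩ := (hφ.bijective_of_nat_card_le hcard4).2
    ⟨((⟨m', hm'M⟩ : M) : M ⧸ N), fun e => hm'N (by
      rw [QuotientGroup.eq, mul_one, Subgroup.mem_subgroupOf] at e
      simpa using inv_mem e)⟩
  have hfm : (m : G)⁻¹ * (f : G)⁻¹ * m' ∈ NN (x * c) X0 := by
    have e1 := congrArg Subtype.val hf
    simpa [mul_assoc] using Subgroup.mem_subgroupOf.mp (QuotientGroup.eq.mp e1)
  have hf1 : (f : G) = 1 := by
    set n := (m : G)⁻¹ * (f : G)⁻¹ * m' with hn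
    have h1 : (m : G)⁻¹ * ((f : G)⁻¹ * g * f) * m ∈ NN (x * c) X0 := by
      rw [show (m : G)⁻¹ * ((f : G)⁻¹ * g * f) * m = n * (m'⁻¹ * g * m') * n⁻¹ by simp only [hn]; group]
      exact mul_mem (mul_mem hfm hgm') (inv_mem hfm)
    have h2 : (m : G)⁻¹ * (g⁻¹ * (f : G)⁻¹ * g * f) * m ∈ NN (x * c) X0 := by
      rw [show (m : G)⁻¹ * (g⁻¹ * (f : G)⁻¹ * g * f) * m =
        ((m : G)⁻¹ * g * m)⁻¹ * ((m : G)⁻¹ * ((f : G)⁻¹ * g * f) * m) by group]
      exact mul_mem (inv_mem hgm) h1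
    have hk : g⁻¹ * (f : G)⁻¹ * g * f ∈ FF (x * c) X0 :=
      mul_mem (map_inv_of_maps (fun a ha => (Subgroup.mem_normalizer_iff.mp hgN a).mp ha) _ (inv_mem f.2))
        f.2
    by_contra hne
    have hk1 : g⁻¹ * (f : G)⁻¹ * g * f ≠ 1 := fun e => by
      have hc : Commute g (f : G) := by
        have : g * (f : G) = f * g := by
          calc g * (f : G) = f * g * (g⁻¹ * (f : G)⁻¹ * g * f) := by group
            _ = f * g := by rw [e, mul_one]
        exact this
      have hc2 : g ∈ Subgroup.centralizer ({(f : G)} : Set G) :=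
        Subgroup.mem_centralizer_singleton_iff.mpr hc.eq
      rw [S.cent_FF f.2 hne] at hc2
      exact hny (Subgroup.mem_centralizer_singleton_iff.mp hc2)
    exact hmN (hfree _ hk hk1 m m.2 h2)
  rw [hf1, inv_one, mul_one] at hfm
  -- `z` centralises the conjugate `v` of `y`
  set v := (m : G) * (x * c) * (m : G)⁻¹
  have hvM : v ∈ M := mul_mem (mul_mem m.2 (hFM S.y_mem)) (inv_mem m.2)
  have hv : z * v * z⁻¹ = v := by
    obtain ⟨n, hn, e⟩ : ∃ n ∈ NN (x * c) X0, m' = m * n := ⟨_, hfm, by group⟩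
    have hzy : z * (x * c) * z⁻¹ = x * c := by
      rw [← (S.kernel.comm_y hzX).symm.eq, mul_assoc, mul_inv_cancel, mul_one]
    set p := n * (x * c) * n⁻¹
    have hp : p ∈ FF (x * c) X0 := S.mem_NN.mp hn
    have hzv : z * v * z⁻¹ = (m : G) * p * (m : G)⁻¹ := by
      rw [show z * v * z⁻¹ = m' * (z * (x * c) * z⁻¹) * m'⁻¹ by simp only [v, m']; group, hzy, e]
      simp only [p]; group
    by_cases hpy : p = x * c
    · rw [hzv, hpy]
    exfalso
    -- `z` commutes with `g`, which permutes the three involutions cyclically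
    set k := (m : G)⁻¹ * g * m
    set t := (m : G)⁻¹ * z * m
    have htk : Commute t k := by
      have := (conj_commute_iff (g := (m : G)⁻¹)).mpr hgz.symm
      simpa [t, k] using this
    have htp : t * (x * c) * t⁻¹ = p := by
      rw [show t * (x * c) * t⁻¹ = (m : G)⁻¹ * (z * v * z⁻¹) * m by simp only [t, v]; group, hzv]
      group
    have hk3 : orderOf k = 3 := by
      rw [← hg3]
      have := orderOf_injective (MulAut.conj (m : G)⁻¹).toMonoidHom
        (MulAut.conj (m : G)⁻¹).injective g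
      simpa [k] using this
    have hny' : ¬ Commute k (x * c) := by
      intro hc
      obtain ⟨a, ha, hkw⟩ := S.cent_y_odd hwX hw hc
        (hMm.mp (mul_mem (mul_mem (inv_mem m.2) gM.2) m.2))
      have hak : k ^ 5 = 1 → False := fun e5 => by
        have := orderOf_dvd_of_pow_eq_one e5
        rw [hk3] at this
        omega
      obtain ⟨j, hj⟩ := Subgroup.mem_zpowers_iff.mp hkw
      have hc' : Commute a (w ^ j) := (S.FF_comm_X0 ha hwX).zpow_right j
      have hk10 : k ^ 10 = 1 := by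
        rw [show k = a * (w ^ j) by rw [hj, mul_inv_cancel_left], hc'.mul_pow,
          show (10 : ℕ) = 2 * 5 from rfl, pow_mul, pow_two, S.FF_sq ha, one_pow, one_mul, mul_comm,
          pow_mul, ← zpow_natCast (w ^ j), ← zpow_mul, mul_comm, zpow_mul, zpow_natCast,
          orderOf_dvd_iff_pow_eq_one.mp hwo.dvd, one_zpow, one_pow]
      have := orderOf_dvd_of_pow_eq_one hk10
      rw [hk3] at this
      omega
    have hp1 : p ≠ 1 := inv_ne_one_conj (S.ctx.ne_one S.hyp)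
    obtain ⟨i, hi⟩ := S.FF_orbit hgm hk3 hny' hp hp1
    have ht2 : t * t = 1 := by
      show (m : G)⁻¹ * z * m * ((m : G)⁻¹ * z * m) = 1
      rw [show (m : G)⁻¹ * z * m * ((m : G)⁻¹ * z * m) = (m : G)⁻¹ * (z * z) * m by group, S.hyp.zz,
        mul_one, inv_mul_cancel]
    have htki : Commute t (k ^ i) := htk.pow_right i
    have hfix : Commute (k ^ (2 * i)) (x * c) := by
      refine mul_inv_eq_iff_eq_mul.mp ?_
      calc k ^ (2 * i) * (x * c) * (k ^ (2 * i))⁻¹
          = k ^ i * (k ^ i * (x * c) * (k ^ i)⁻¹) * (k ^ i)⁻¹ := by rw [two_mul, pow_add]; group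
        _ = k ^ i * (t * (x * c) * t⁻¹) * (k ^ i)⁻¹ := by rw [hi, htp]
        _ = (k ^ i * t) * (x * c) * (k ^ i * t)⁻¹ := by group
        _ = (t * k ^ i) * (x * c) * (t * k ^ i)⁻¹ := by rw [htki.eq]
        _ = t * (k ^ i * (x * c) * (k ^ i)⁻¹) * t⁻¹ := by group
        _ = (t * t) * (x * c) * (t * t)⁻¹ := by rw [hi, ← htp]; group
        _ = x * c := by rw [ht2]; group
    have hk3' : k ^ 3 = 1 := orderOf_dvd_iff_pow_eq_one.mp hk3.dvd
    by_cases h3 : 3 ∣ i
    · obtain ⟨l, rfl⟩ := h3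
      rw [pow_mul, hk3', one_pow, one_mul, inv_one, mul_one] at hi
      exact hpy hi.symm
    · refine hny' ?_
      obtain ⟨q, r, hr, rfl⟩ : ∃ q r, r < 3 ∧ i = 3 * q + r := ⟨i / 3, i % 3, by omega, by omega⟩
      have h2i : k ^ (2 * (3 * q + r)) = k ^ (2 * r) := by
        rw [show 2 * (3 * q + r) = 3 * (2 * q) + 2 * r by ring, pow_add, pow_mul, hk3', one_pow, one_mul]
      rw [h2i] at hfix
      interval_cases r
      · exact absurd (by omega) h3
      · have := hfix.pow_left 2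
        rwa [← pow_mul, show 2 * 1 * 2 = 3 + 1 from rfl, pow_succ, hk3', one_mul] at this
      · rwa [show 2 * 2 = 3 + 1 from rfl, pow_succ, hk3', one_mul] at hfix
  -- conclusion
  have hvD : v ∈ DH z w := mem_DH.mpr ⟨hMm.mp hvM, (mul_inv_eq_iff_eq_mul.mp hv : Commute z v).symm⟩
  have hvnot : v ∉ DD (x * c) X0 := by
    intro hvd
    refine hmN (S.mem_NN.mpr (DD_invol S hvd ?_))
    show (m : G) * (x * c) * (m : G)⁻¹ * ((m : G) * (x * c) * (m : G)⁻¹) = 1
    rw [show (m : G) * (x * c) * (m : G)⁻¹ * ((m : G) * (x * c) * (m : G)⁻¹) =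
      (m : G) * ((x * c) * (x * c)) * (m : G)⁻¹ by group, S.FF_sq S.y_mem, mul_one, mul_inv_cancel]
  have hd12 : 12 ∣ Nat.card (DH z w) := S.card_DD ▸ Subgroup.card_dvd_of_le (DD_le_DH S hwX)
  have hne12 : Nat.card (DH z w) ≠ 12 := fun e => hvnot (by
    rw [Subgroup.eq_of_le_of_card_ge (DD_le_DH S hwX) (by rw [e, S.card_DD])]
    exact hvD)
  have hsmall : Nat.card (DH z w) * 5 ≤ 300 := by
    have hdisj : Disjoint (DH z w) (Subgroup.zpowers w) := by
      rw [disjoint_iff, Subgroup.eq_bot_iff_forall]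
      intro a ha
      obtain ⟨ha1, ha2⟩ := Subgroup.mem_inf.mp ha
      obtain ⟨j, rfl⟩ := Subgroup.mem_zpowers_iff.mp ha2
      refine hw.eq_one_of_sq ha2 ?_
      have hcz : z * w ^ j * z⁻¹ = w ^ j := by
        rw [← (mem_DH.mp ha1).2.eq, mul_inv_cancel_right]
      rw [← conj_zpow, hinv, inv_zpow] at hcz
      exact eq_inv_iff_mul_eq_one.mp hcz.symm
    rw [← hwo, ← Nat.card_zpowers, ← hM, ← Nat.card_prod]
    refine Nat.card_le_card_of_injective
      (fun p : DH z w × Subgroup.zpowers w =>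
        (⟨(p.1 : G) * p.2, mul_mem p.1.2.1 (hwM p.2.2)⟩ : M)) fun p q e => ?_
    exact Subgroup.mul_injective_of_disjoint hdisj (congrArg Subtype.val e)
  have hdvd : Nat.card (DH z w) ∣ 300 := hM ▸ Subgroup.card_dvd_of_le inf_le_left
  obtain ⟨k, hk⟩ := hd12
  have : k ∣ 25 := by
    rw [hk, show (300 : ℕ) = 12 * 25 from rfl] at hdvd
    exact (Nat.mul_dvd_mul_iff_left (by norm_num : 0 < 12)).mp hdvd
  have hk5 : k ≤ 5 := by omega
  interval_cases k <;> first | omega | exact absurd this (by norm_num)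

end H36.J2U
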