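import Mathlib.Data.List.GetD
import Mathlib.GroupTheory.Coset.Card
import Mathlib.GroupTheory.GroupAction.Quotient

/-!
A checker for coset enumeration certificates: a list of facts "coset `i` times generator `g` is coset `j`",
each one either a definition, a subgroup generator, or the completion of a relator cycle by earlier facts.
-/

set_option autoImplicit false

namespace H36.J2U

/-- Binary tree of encoded facts. -/
inductive Tr
  | leaf (n : Nat)
  | node (l r : Tr)

/-- The entry with the bits of `k` (most significant first, `d` of them). -/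
def Tr.get : Tr → Nat → Nat → Nat
  | .leaf n, _, _ => n
  | .node l r, d, k => if (k >>> (d - 1)) &&& 1 = 0 then l.get (d - 1) k else r.get (d - 1) k

/-- Bit layout of a fact: `i` (10), `g` (4), `j` (10), rule (7), rotation (8), length (8), references (14 each). -/
def fI (n : Nat) : Nat := n &&& 1023
def fG (n : Nat) : Nat := (n >>> 10) &&& 15
def fJ (n : Nat) : Nat := (n >>> 14) &&& 1023
def fRule (n : Nat) : Nat := (n >>> 24) &&& 127
def fRot (n : Nat) : Nat := (n >>> 31) &&& 255
def fLen (n : Nat) : Nat := (n >>> 39) &&& 255
def fRef (n t : Nat) : Nat := (n >>> (47 + 14 * t)) &&& 16383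

/-- Certificate data. -/
structure Cert where
  /-- number of generators; the index `eps` stands for the identity -/
  eps : Nat
  inv : List Nat
  rels : List (List Nat)
  sub : List Nat
  gens : List Nat
  depth : Nat
  facts : Tr
  num : Nat
  ncos : Nat
  live : List Nat
  close : Nat

namespace Cert

def fact (C : Cert) (k : Nat) : Nat := C.facts.get C.depth k

def flip (C : Cert) (g : Nat) : Nat := C.inv.getD g g

/-- Start, end and label of a reference; odd references are reversed facts. -/
def refStep (C : Cert) (r : Nat) : Nat × Nat × Nat :=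
  let n := C.fact (r / 2)
  if r % 2 = 0 then (fI n, fG n, fJ n) else (fJ n, C.flip (fG n), fI n)

/-- Follow references; all must point below `k`. Returns the end point and the word read. -/
def walk (C : Cert) (k : Nat) : List Nat → Nat → Option (Nat × List Nat)
  | [], i => some (i, [])
  | r :: rs, i =>
    let s := C.refStep r
    if r / 2 < k ∧ s.1 = i then
      match walk C k rs s.2.2 with
      | some (j, w) => some (j, if s.2.1 = C.eps then w else s.2.1 :: w)
      | none => none
    else none

def refs (n : Nat) : List Nat := (List.range (fLen n)).map (fRef n)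

def label (C : Cert) (g : Nat) : List Nat := if g = C.eps then [] else [g]

/-- The parent of a coset is the fact defining it. -/
def checkFact (C : Cert) (par : Nat → Nat) (k : Nat) : Bool :=
  let n := C.fact k
  if fRule n = 127 then fI n == 0 && fJ n == 0 && C.sub.contains (fG n)
  else if fRule n = 126 then par (fJ n) == k && fI n < fJ n
  else
    match C.walk k (refs n) (fI n) with
    | some (j, w) => j == fJ n && fRule n < C.rels.length &&
        (C.label (fG n) ++ (w.reverse.map C.flip) ==
          (C.rels.getD (fRule n) []).rotate (fRot n))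
    | none => false

def checkClose (C : Cert) : Bool :=
  C.live.contains 0 &&
  (List.range (C.live.length * C.gens.length)).all fun t =>
    let c := C.live.getD (t / C.gens.length) 0
    let g := C.gens.getD (t % C.gens.length) 0
    let k := (C.close >>> (14 * t)) &&& 16383
    let n := C.fact k
    k < C.num && fI n == c && fG n == g && C.live.contains (fJ n)

variable {K : Type*} [Group K]

/-- The words of the certificate evaluate in `K`. -/
structure Valid (C : Cert) (e : Nat → K) (H : Subgroup K) : Prop where
  eps : e C.eps = 1
  inv : ∀ g, e (C.flip g) = (e g)⁻¹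
  rels : ∀ w ∈ C.rels, (w.map e).prod = 1
  sub : ∀ g ∈ C.sub, e g ∈ H

theorem prod_rotate_eq_one {l : List K} (h : l.prod = 1) (n : Nat) : (l.rotate n).prod = 1 :=
  List.prod_rotate_eq_one_of_prod_eq_one h n

/-- The coset attached to a number, following parents. -/
def pt (C : Cert) (par : Nat → Nat) (e : Nat → K) (H : Subgroup K) (j : Nat) : K ⧸ H :=
  if h : fI (C.fact (par j)) < j then (e (fG (C.fact (par j))))⁻¹ • pt C par e H (fI (C.fact (par j)))
  else ((1 : K) : K ⧸ H)
termination_by j

variable (C : Cert) (par : Nat → Nat) (e : Nat → K) (H : Subgroup K)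

/-- A fact holds. -/
def Holds (k : Nat) : Prop :=
  (e (fG (C.fact k)))⁻¹ • pt C par e H (fI (C.fact k)) = pt C par e H (fJ (C.fact k))

variable {C par e H}

theorem pt_zero : pt C par e H 0 = ((1 : K) : K ⧸ H) := by
  rw [pt, dif_neg (Nat.not_lt_zero _)]

theorem refStep_holds (V : C.Valid e H) {r : Nat} (h : Holds C par e H (r / 2)) :
    (e (C.refStep r).2.1)⁻¹ • pt C par e H (C.refStep r).1 = pt C par e H (C.refStep r).2.2 := by
  unfold refStep
  dsimp only
  split
  · exact h
  · show (e (C.flip (fG _)))⁻¹ • _ = _
    rw [V.inv, inv_inv, ← h, smul_inv_smul]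

theorem walk_holds (V : C.Valid e H) {k : Nat} (hk : ∀ m < k, Holds C par e H m) :
    ∀ (rs : List Nat) (i j : Nat) (w : List Nat), C.walk k rs i = some (j, w) →
      ((w.map e).prod)⁻¹ • pt C par e H i = pt C par e H j := by
  intro rs
  induction rs with
  | nil =>
    intro i j w h
    simp only [walk, Option.some.injEq, Prod.mk.injEq] at h
    obtain ⟨rfl, rfl⟩ := h
    simp
  | cons r rs ih =>
    intro i j w h
    simp only [walk] at h
    split at h
    · rename_i hc
      split at h
      · rename_i j' w' hw
        simp only [Option.some.injEq, Prod.mk.injEq] at h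
        obtain ⟨rfl, rfl⟩ := h
        have h1 := refStep_holds V (hk _ hc.1)
        rw [hc.2] at h1
        have h2 := ih _ _ _ hw
        rw [← h1, ← mul_smul, ← mul_inv_rev] at h2
        split
        · rename_i he
          rw [he, V.eps, one_mul] at h2
          exact h2
        · rw [List.map_cons, List.prod_cons]
          exact h2
      · simp at h
    · simp at h

theorem checkFact_holds (V : C.Valid e H) {k : Nat} (hk : ∀ m < k, Holds C par e H m)
    (hc : C.checkFact par k = true) : Holds C par e H k := by
  unfold checkFact at hc
  dsimp only at hc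
  unfold Holds
  split at hc
  · simp only [Bool.and_eq_true, beq_iff_eq, List.contains_iff_mem] at hc
    obtain ⟨⟨hi, hj⟩, hg⟩ := hc
    rw [hi, hj, pt_zero]
    show (((e _)⁻¹ * 1 : K) : K ⧸ H) = ((1 : K) : K ⧸ H)
    rw [QuotientGroup.eq]
    simpa using V.sub _ hg
  · split at hc
    · simp only [Bool.and_eq_true, beq_iff_eq, decide_eq_true_eq] at hc
      obtain ⟨hp, hlt⟩ := hc
      conv_rhs => rw [pt]
      rw [hp, dif_pos hlt]
    · split at hc
      · rename_i j w hw
        simp only [Bool.and_eq_true, beq_iff_eq, decide_eq_true_eq] at hc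
        obtain ⟨⟨hj, hlen⟩, hrot⟩ := hc
        have hmem : C.rels.getD (fRule (C.fact k)) [] ∈ C.rels := by
          rw [List.getD_eq_getElem _ _ hlen]
          exact List.getElem_mem hlen
        have hone : (((C.rels.getD (fRule (C.fact k)) []).rotate (fRot (C.fact k))).map e).prod = 1 := by
          rw [List.map_rotate]
          exact prod_rotate_eq_one (V.rels _ hmem) _
        rw [← hrot, List.map_append, List.prod_append] at hone
        have hlab : ((C.label (fG (C.fact k))).map e).prod = e (fG (C.fact k)) := by
          unfold label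
          split
          · rename_i hE; rw [hE, V.eps]; rfl
          · simp
        have hinv : ((w.reverse.map C.flip).map e).prod = ((w.map e).prod)⁻¹ := by
          rw [List.prod_inv_reverse, List.map_map, List.map_map, ← List.map_reverse]
          congr 1
          exact List.map_congr_left fun g _ => V.inv g
        rw [hlab, hinv, mul_inv_eq_one] at hone
        rw [hone, ← hj]
        exact walk_holds V hk _ _ _ _ hw
      · simp at hc

/-- Soundness: the subgroup generated by the generators has at most `live.length` cosets of `H`. -/
theorem card_le [Finite K] (V : C.Valid e H)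
    (hf : (List.range C.num).all (C.checkFact par) = true) (hcl : C.checkClose = true) :
    Nat.card (Subgroup.closure (e '' {g | g ∈ C.gens})) ≤ Nat.card H * C.live.length := by
  classical
  rw [List.all_eq_true] at hf
  have hall : ∀ k, k < C.num → Holds C par e H k := by
    intro k
    refine Nat.strong_induction_on (p := fun k => k < C.num → Holds C par e H k) k ?_
    intro m ih hm
    exact checkFact_holds V (fun i hi => ih i hi (hi.trans hm)) (hf m (List.mem_range.mpr hm))
  simp only [checkClose, Bool.and_eq_true, List.all_eq_true, List.mem_range, List.contains_iff_mem,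
    beq_iff_eq, decide_eq_true_eq] at hcl
  obtain ⟨h0, hcl⟩ := hcl
  set S : Finset (K ⧸ H) := C.live.toFinset.image (pt C par e H) with hS
  have hstep : ∀ g ∈ C.gens, ∀ s ∈ S, (e g)⁻¹ • s ∈ S := by
    intro g hg s hs
    obtain ⟨c, hc, rfl⟩ := Finset.mem_image.mp hs
    rw [List.mem_toFinset] at hc
    obtain ⟨a, ha, rfl⟩ := List.getElem_of_mem hc
    obtain ⟨b, hb, rfl⟩ := List.getElem_of_mem hg
    have ht : a * C.gens.length + b < C.live.length * C.gens.length :=
      calc a * C.gens.length + b < a * C.gens.length + C.gens.length := by omega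
        _ = (a + 1) * C.gens.length := (Nat.succ_mul _ _).symm
        _ ≤ C.live.length * C.gens.length := Nat.mul_le_mul_right _ ha
    obtain ⟨⟨⟨hk, hi⟩, hgg⟩, hj⟩ := hcl _ ht
    have hd : (a * C.gens.length + b) / C.gens.length = a := by
      rw [Nat.mul_comm, Nat.mul_add_div (by omega), Nat.div_eq_of_lt hb, Nat.add_zero]
    have hm : (a * C.gens.length + b) % C.gens.length = b := by
      rw [Nat.mul_add_mod_self_right, Nat.mod_eq_of_lt hb]
    rw [hd, List.getD_eq_getElem _ _ ha] at hi
    rw [hm, List.getD_eq_getElem _ _ hb] at hgg
    have h2 := hall _ hk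
    rw [Holds, hgg, hi] at h2
    rw [h2]
    exact Finset.mem_image_of_mem _ (List.mem_toFinset.mpr hj)
  have hset : ∀ k ∈ Subgroup.closure (e '' {g | g ∈ C.gens}), ∀ s, s ∈ S ↔ k⁻¹ • s ∈ S := by
    intro k hk
    induction hk using Subgroup.closure_induction with
    | mem x hx =>
      obtain ⟨g, hg, rfl⟩ := hx
      intro s
      refine ⟨hstep g hg s, fun h => ?_⟩
      have hi : S.image (fun s => (e g)⁻¹ • s) = S := Finset.eq_of_subset_of_card_le
        (fun t ht => by obtain ⟨t', ht', rfl⟩ := Finset.mem_image.mp ht; exact hstep g hg t' ht')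
        (le_of_eq (Finset.card_image_of_injective _ (MulAction.injective _)).symm)
      rw [← hi] at h
      obtain ⟨t, ht, he⟩ := Finset.mem_image.mp h
      exact (MulAction.injective (e g)⁻¹ he) ▸ ht
    | one => simp
    | mul x y _ _ hx hy => intro s; rw [mul_inv_rev, mul_smul, ← hy, ← hx]
    | inv x _ hx => intro s; rw [inv_inv, hx (x • s), inv_smul_smul]
  have hsub : (Subgroup.closure (e '' {g | g ∈ C.gens}) : Set K) ⊆
      QuotientGroup.mk ⁻¹' (S : Set (K ⧸ H)) := by
    intro k hk
    show (k : K ⧸ H) ∈ S
    have h1 : ((1 : K) : K ⧸ H) ∈ S := pt_zero (C := C) (par := par) (e := e) ▸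
      Finset.mem_image_of_mem _ (List.mem_toFinset.mpr h0)
    have := (hset k⁻¹ (inv_mem hk) _).mp h1
    rw [inv_inv] at this
    simpa [MulAction.Quotient.smul_coe] using this
  calc Nat.card (Subgroup.closure (e '' {g | g ∈ C.gens}))
      ≤ Nat.card (QuotientGroup.mk ⁻¹' (S : Set (K ⧸ H)) : Set K) :=
        Nat.card_mono (Set.toFinite _) hsub
    _ = Nat.card H * S.card := by
        rw [Nat.card_congr (QuotientGroup.preimageMkEquivSubgroupProdSet H _), Nat.card_prod]
        simp
    _ ≤ Nat.card H * C.live.length :=
        Nat.mul_le_mul_left _ (Finset.card_image_le.trans (List.toFinset_card_le _))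

end Cert

end H36.J2U
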