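import Cfsg.Agent.H36.J2U.Lab

/-!
The five conjugates of `u` under the centraliser of `⟨W, z⟩` generate `Q` as a Clifford group.
-/

set_option autoImplicit false

namespace H36.J2U

open H36.HJ

local notation "A5" => alternatingGroup (Fin 5)

variable {G : Type*} [Group G] [Finite G]
variable {z : G} {Q : Subgroup G} {χ : Subgroup.centralizer ({z} : Set G) →* A5}
variable {u h x c : G} {X0 : Subgroup G} {w : G} {ψ : alternatingGroup (Fin 5) →* G}

/-- The five conjugates of `u`. -/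
def U (ψ : A5 →* G) (u : G) (i : Fin 5) : G := (ψ (mv i))⁻¹ * u * ψ (mv i)

/-- `a` or `1`. -/
def pb (b : Bool) (a : G) : G := bif b then a else 1

theorem u_mem_X0 (S : Full z Q χ u h x c X0) : u ∈ X0 := S.inE_mem (Or.inr (Or.inr (Or.inl rfl)))

theorem DLab.comm_u (L : DLab z w (x * c) X0 ψ) (S : Full z Q χ u h x c X0) {k : A5} (hk : app k 4 = 4) :
    Commute (ψ k) u := S.DD_comm_X0 (L.fix k hk) (u_mem_X0 S)

theorem DLab.U_eq (L : DLab z w (x * c) X0 ψ) (S : Full z Q χ u h x c X0) {k : A5} {i : Fin 5}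
    (hk : app k i = 4) : U ψ u i = (ψ k)⁻¹ * u * ψ k := by
  have h1 : app (k * (mv i)⁻¹) 4 = 4 := by
    rw [app_mul, show app (mv i)⁻¹ 4 = i by
      rw [← mv_spec i, ← app_mul, inv_mul_cancel]; rfl]
    exact hk
  have h2 : ψ k * (ψ (mv i))⁻¹ * u = u * (ψ k * (ψ (mv i))⁻¹) := by
    rw [← map_inv, ← map_mul]; exact (L.comm_u S h1).eq
  calc U ψ u i = (ψ k)⁻¹ * (ψ k * (ψ (mv i))⁻¹ * u) * ψ (mv i) := by rw [U]; group
    _ = (ψ k)⁻¹ * u * ψ k := by rw [h2]; group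

theorem DLab.U_equiv (L : DLab z w (x * c) X0 ψ) (S : Full z Q χ u h x c X0) (k : A5) (i : Fin 5) :
    ψ k * U ψ u i * (ψ k)⁻¹ = U ψ u (app k i) := by
  have h1 : app (mv i * k⁻¹) (app k i) = 4 := by
    rw [app_mul, ← app_mul k⁻¹, inv_mul_cancel]
    exact mv_spec i
  rw [L.U_eq S h1, U, map_mul, map_inv]
  group

theorem DLab.U_four (L : DLab z w (x * c) X0 ψ) (S : Full z Q χ u h x c X0) : U ψ u 4 = u := by
  rw [L.U_eq S (k := 1) (i := (4 : Fin 5)) rfl]
  simp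

theorem DLab.sat_U (L : DLab z w (x * c) X0 ψ) (S : Full z Q χ u h x c X0) (i : Fin 5) :
    Hyp.Sat z Q (U ψ u i) := by
  have := S.hyp.sat_conj S.ctx.pair.sat (L.commz (mv i)).inv_left
  simpa [U] using this

theorem DLab.U_memQ (L : DLab z w (x * c) X0 ψ) (S : Full z Q χ u h x c X0) (i : Fin 5) :
    U ψ u i ∈ Q := (L.sat_U S i).1

theorem DLab.U_sq (L : DLab z w (x * c) X0 ψ) (S : Full z Q χ u h x c X0) (i : Fin 5) :
    U ψ u i * U ψ u i = 1 := (L.sat_U S i).2.1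

theorem DLab.U_z (L : DLab z w (x * c) X0 ψ) (S : Full z Q χ u h x c X0) (i : Fin 5) :
    Commute (U ψ u i) z := S.hyp.comm_z (L.U_memQ S i)

/-- No element of order five maps `{u, uz}` to itself. -/
theorem DLab.U_one_ne (L : DLab z w (x * c) X0 ψ) (S : Full z Q χ u h x c X0) :
    U ψ u 1 ≠ u ∧ U ψ u 1 ≠ u * z := by
  have H := S.hyp
  have P := S.ctx.pair
  by_contra hc
  have hS : U ψ u 1 = u ∨ U ψ u 1 = u * z := by tauto
  have he : app Pe 4 = 1 := by decide +kernel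
  have step : ∀ k : A5, ψ k * u * (ψ k)⁻¹ = u ∨ ψ k * u * (ψ k)⁻¹ = u * z := by
    intro k
    rcases double_coset k with h | ⟨d, hd, d', hd', rfl⟩
    · left; rw [(L.comm_u S h).eq, mul_inv_cancel_right]
    · have hd4 := L.comm_u S (stab4_fix d hd)
      have hd4' := L.comm_u S (stab4_fix d' hd')
      have e1 : ψ Pe * u * (ψ Pe)⁻¹ = U ψ u 1 := by
        have := L.U_equiv S Pe 4
        rwa [L.U_four S, he] at this
      have e2 : ψ (d * Pe * d') * u * (ψ (d * Pe * d'))⁻¹ = ψ d * U ψ u 1 * (ψ d)⁻¹ := by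
        rw [← e1, map_mul, map_mul, show ψ d * ψ Pe * ψ d' * u = ψ d * ψ Pe * (ψ d' * u) by group,
          hd4'.eq]
        group
      rw [e2]
      rcases hS with e | e <;> rw [e]
      · left; rw [hd4.eq, mul_inv_cancel_right]
      · right; rw [← mul_assoc, hd4.eq, mul_assoc u, (L.commz d).eq]; group
  obtain ⟨f, hf5, hf1⟩ := a5_exists_five
  have hfu : Commute (ψ f ^ 2) u := by
    refine mul_inv_eq_iff_eq_mul.mp ?_
    rcases step f with e | e
    · rw [pow_two, show ψ f * ψ f * u * (ψ f * ψ f)⁻¹ = ψ f * (ψ f * u * (ψ f)⁻¹) * (ψ f)⁻¹ by group,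
        e, e]
    · rw [pow_two, show ψ f * ψ f * u * (ψ f * ψ f)⁻¹ = ψ f * (ψ f * u * (ψ f)⁻¹) * (ψ f)⁻¹ by group,
        e, show ψ f * (u * z) * (ψ f)⁻¹ = ψ f * u * (ψ f)⁻¹ * (ψ f * z * (ψ f)⁻¹) by group,
        e, (L.commz f).eq, mul_inv_cancel_right, mul_assoc, H.zz, mul_one]
  haveI : Fact (Nat.Prime 5) := ⟨by norm_num⟩
  have ho : orderOf (ψ f ^ 2) = 5 := by
    rw [← map_pow, orderOf_injective ψ L.inj]
    refine orderOf_eq_prime ?_ ?_
    · rw [← pow_mul, mul_comm, pow_mul, hf5, one_pow]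
    · intro e
      exact hf1 (by
        calc f = (f ^ 2) ^ 3 * (f ^ 5)⁻¹ := by group
          _ = 1 := by rw [e, hf5]; group)
  rcases H.five_fix ho ((L.commz f).pow_left 2) P.sat.1 hfu with e | e
  exacts [P.u_ne_one e, P.u_ne e]

theorem DLab.U_ne (L : DLab z w (x * c) X0 ψ) (S : Full z Q χ u h x c X0) {i j : Fin 5} (hij : i ≠ j) :
    U ψ u j ≠ U ψ u i ∧ U ψ u j ≠ U ψ u i * z := by
  obtain ⟨k, hki, hkj⟩ := two_trans i j hij
  obtain ⟨h1, h2⟩ := L.U_one_ne S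
  have ei := L.U_equiv S k i
  have ej := L.U_equiv S k j
  rw [hki, L.U_four S] at ei
  rw [hkj] at ej
  refine ⟨fun e => h1 ?_, fun e => h2 ?_⟩
  · rw [← ej, e, ei]
  · rw [← ej, e, ← mul_assoc, mul_assoc (ψ k * U ψ u i), ← (L.commz k).inv_left.eq, ← mul_assoc, ei]

theorem DLab.anti (L : DLab z w (x * c) X0 ψ) (S : Full z Q χ u h x c X0) {i j : Fin 5} (hij : i ≠ j) :
    U ψ u i * U ψ u j = U ψ u j * U ψ u i * z :=
  S.hyp.sat_noncomm (L.sat_U S i) (L.sat_U S j) (L.U_ne S hij).1 (L.U_ne S hij).2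

theorem DLab.conj_U (L : DLab z w (x * c) X0 ψ) (S : Full z Q χ u h x c X0) (j i : Fin 5) :
    U ψ u j * U ψ u i * (U ψ u j)⁻¹ = U ψ u i * pb (decide (i ≠ j)) z := by
  by_cases hij : i = j
  · subst hij; simp [pb]
  · rw [L.anti S (Ne.symm hij), mul_assoc (U ψ u i * U ψ u j), ← (L.U_z S j).inv_left.eq]
    simp [pb, hij, mul_assoc]

/-- The normal form `z^s U₀^a U₁^b U₂^c U₃^d`. -/
def mon (ψ : A5 →* G) (z u : G) (e : Bool × Bool × Bool × Bool × Bool) : G :=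
  pb e.1 z * pb e.2.1 (U ψ u 0) * pb e.2.2.1 (U ψ u 1) * pb e.2.2.2.1 (U ψ u 2) * pb e.2.2.2.2 (U ψ u 3)

/-- The sign picked up on conjugating a normal form by `Uⱼ`. -/
def par (e : Bool × Bool × Bool × Bool × Bool) (j : Fin 5) : Bool :=
  ((e.2.1 && decide ((0 : Fin 5) ≠ j)).xor (e.2.2.1 && decide ((1 : Fin 5) ≠ j))).xor
    ((e.2.2.2.1 && decide ((2 : Fin 5) ≠ j)).xor (e.2.2.2.2 && decide ((3 : Fin 5) ≠ j)))

theorem par_inj : ∀ e f : Bool × Bool × Bool × Bool × Bool, (∀ j, par e j = par f j) → e.2 = f.2 := by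
  decide +kernel

theorem conj_pb {g a t : G} (b p : Bool) (h : g * a * g⁻¹ = a * pb p t) :
    g * pb b a * g⁻¹ = pb b a * pb (b && p) t := by
  cases b <;> simp [pb] at h ⊢
  exact h

theorem pb_collect {t a a' : G} (ht : t * t = 1) (hc : Commute a' t) (b b' : Bool) :
    a * pb b t * (a' * pb b' t) = a * a' * pb (b.xor b') t := by
  cases b <;> cases b' <;> simp [pb, mul_assoc]
  · exact hc.eq.symm
  · rw [← mul_assoc t, ← hc.eq, mul_assoc, ht, mul_one]

theorem DLab.pb_z (L : DLab z w (x * c) X0 ψ) (S : Full z Q χ u h x c X0) (b : Bool) (i : Fin 5) :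
    Commute (pb b (U ψ u i)) z := by
  cases b
  · exact Commute.one_left z
  · exact L.U_z S i

theorem DLab.conj_mon (L : DLab z w (x * c) X0 ψ) (S : Full z Q χ u h x c X0) (j : Fin 5)
    (e : Bool × Bool × Bool × Bool × Bool) :
    U ψ u j * mon ψ z u e * (U ψ u j)⁻¹ = mon ψ z u e * pb (par e j) z := by
  set g := U ψ u j
  have hz : g * pb e.1 z * g⁻¹ = pb e.1 z * pb false z := by
    cases e.1
    · simp [pb]
    · simp [pb, g, (L.U_z S j).eq]
  have hzz := S.hyp.zz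
  rw [mon, par, show ∀ a b c d f : G, g * (a * b * c * d * f) * g⁻¹ =
    g * a * g⁻¹ * (g * b * g⁻¹) * (g * c * g⁻¹) * (g * d * g⁻¹) * (g * f * g⁻¹) from
      fun a b c d f => by group,
    hz, conj_pb _ _ (L.conj_U S j 0), conj_pb _ _ (L.conj_U S j 1), conj_pb _ _ (L.conj_U S j 2),
    conj_pb _ _ (L.conj_U S j 3), pb_collect hzz (L.pb_z S _ 0), pb_collect hzz (L.pb_z S _ 1),
    pb_collect hzz (L.pb_z S _ 2), pb_collect hzz (L.pb_z S _ 3), Bool.false_xor, Bool.xor_assoc]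

theorem DLab.mon_inj (L : DLab z w (x * c) X0 ψ) (S : Full z Q χ u h x c X0) :
    Function.Injective (mon ψ z u) := by
  intro e f hef
  have hzne := S.hyp.z_ne
  have h2 : e.2 = f.2 := par_inj e f fun j => by
    have h1 := L.conj_mon S j e
    rw [hef, L.conj_mon S j f] at h1
    have := mul_left_cancel h1
    revert this
    cases par e j <;> cases par f j <;> simp [pb, hzne, Ne.symm hzne]
  refine Prod.ext ?_ h2
  have h3 := hef
  unfold mon at h3
  rw [h2] at h3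
  simp only [mul_assoc] at h3
  have := mul_right_cancel h3
  revert this
  cases e.1 <;> cases f.1 <;> simp [pb, hzne, Ne.symm hzne]

theorem DLab.mon_mem (L : DLab z w (x * c) X0 ψ) (S : Full z Q χ u h x c X0)
    (e : Bool × Bool × Bool × Bool × Bool) : mon ψ z u e ∈ Q := by
  have hp : ∀ (b : Bool) {a : G}, a ∈ Q → pb b a ∈ Q := fun b a ha => by
    cases b
    · exact one_mem Q
    · exact ha
  exact mul_mem (mul_mem (mul_mem (mul_mem (hp _ S.hyp.zmem) (hp _ (L.U_memQ S 0))) (hp _ (L.U_memQ S 1)))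
    (hp _ (L.U_memQ S 2))) (hp _ (L.U_memQ S 3))

theorem DLab.mon_surj (L : DLab z w (x * c) X0 ψ) (S : Full z Q χ u h x c X0) {q : G} (hq : q ∈ Q) :
    ∃ e, mon ψ z u e = q := by
  have hinj : Function.Injective fun e => (⟨mon ψ z u e, L.mon_mem S e⟩ : Q) :=
    fun e f h => L.mon_inj S (congrArg Subtype.val h)
  obtain ⟨e, he⟩ := (hinj.bijective_of_nat_card_le (by
    rw [S.hyp.card, Nat.card_eq_fintype_card]; decide)).2 ⟨q, hq⟩
  exact ⟨e, congrArg Subtype.val he⟩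

/-- `U₀U₁U₂U₃U₄` is central. -/
theorem DLab.prod_cases (L : DLab z w (x * c) X0 ψ) (S : Full z Q χ u h x c X0) :
    U ψ u 0 * U ψ u 1 * U ψ u 2 * U ψ u 3 * u = 1 ∨
      U ψ u 0 * U ψ u 1 * U ψ u 2 * U ψ u 3 * u = z := by
  have H := S.hyp
  set p := U ψ u 0 * U ψ u 1 * U ψ u 2 * U ψ u 3 * u
  set e0 : Bool × Bool × Bool × Bool × Bool := (false, true, true, true, true)
  have hp : p = mon ψ z u e0 * U ψ u 4 := by simp [p, mon, e0, pb, L.U_four S]
  have hj : ∀ j, Commute (U ψ u j) p := by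
    intro j
    refine mul_inv_eq_iff_eq_mul.mp ?_
    rw [hp, show U ψ u j * (mon ψ z u e0 * U ψ u 4) * (U ψ u j)⁻¹ =
      U ψ u j * mon ψ z u e0 * (U ψ u j)⁻¹ * (U ψ u j * U ψ u 4 * (U ψ u j)⁻¹) by group,
      L.conj_mon S j, L.conj_U S j 4, pb_collect H.zz (L.U_z S 4)]
    have : (par e0 j).xor (decide ((4 : Fin 5) ≠ j)) = false := by revert j; decide +kernel
    rw [this]
    simp [pb]
  have hpQ : p ∈ Q := hp ▸ mul_mem (L.mon_mem S e0) (L.U_memQ S 4)
  refine H.center_mem hpQ fun q hq => ?_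
  obtain ⟨e, rfl⟩ := L.mon_surj S hq
  have hc : ∀ (b : Bool) {a : G}, Commute p a → Commute p (pb b a) := fun b a ha => by
    cases b
    · exact Commute.one_right p
    · exact ha
  exact ((((hc _ (H.comm_z hpQ)).mul_right (hc _ (hj 0).symm)).mul_right (hc _ (hj 1).symm)).mul_right
    (hc _ (hj 2).symm)).mul_right (hc _ (hj 3).symm)

/-- Relabelling by the transposition `(01)`. -/
theorem DLab.relabel (L : DLab z w (x * c) X0 ψ) (S : Full z Q χ u h x c X0) :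
    DLab z w (x * c) X0 (ψ.comp (cj Psw)) ∧
      ∀ i, U (ψ.comp (cj Psw)) u i = U ψ u (Psw i) := by
  have hfix : ∀ k i, app k i = 4 → app (cj Psw k) (Psw i) = 4 := by decide +kernel
  refine ⟨⟨L.inj.comp (cj_injective Psw), fun k => L.commz _, fun k => L.commw _, fun k hk =>
    L.fix _ (hfix k 4 hk)⟩, fun i => ?_⟩
  rw [L.U_eq S (hfix (mv i) i (mv_spec i))]
  rfl

/-- A labelling in which the five conjugates multiply to one. -/
theorem exists_dlab_one (S : Full z Q χ u h x c X0) (L : DLab z w (x * c) X0 ψ) :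
    ∃ ψ' : A5 →* G, DLab z w (x * c) X0 ψ' ∧
      U ψ' u 0 * U ψ' u 1 * U ψ' u 2 * U ψ' u 3 * u = 1 ∧ ∀ g, g ∈ ψ.range → g ∈ ψ'.range := by
  rcases L.prod_cases S with e | e
  · exact ⟨ψ, L, e, fun g hg => hg⟩
  obtain ⟨L', hU⟩ := L.relabel S
  refine ⟨_, L', ?_, ?_⟩
  · rw [hU, hU, hU, hU, show Psw 0 = 1 from rfl, show Psw 1 = 0 from rfl, show Psw 2 = 2 by decide,
      show Psw 3 = 3 by decide, L.anti S (by decide : (1 : Fin 5) ≠ 0),
      show ∀ a b c d : G, a * b * z * c * d * u = a * b * (z * (c * d * u)) from fun a b c d => by group,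
      ← ((L.U_z S 2).mul_left ((L.U_z S 3))).mul_left (S.ctx.pair.u_comm S.hyp) |>.eq]
    rw [show U ψ u 0 * U ψ u 1 * (U ψ u 2 * U ψ u 3 * u * z) =
      U ψ u 0 * U ψ u 1 * U ψ u 2 * U ψ u 3 * u * z by group, e, S.hyp.zz]
  · rintro g ⟨k, rfl⟩
    obtain ⟨l, rfl⟩ := cj_surjective Psw k
    exact ⟨l, rfl⟩

end H36.J2U
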