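import Cfsg.Agent.H36.J2U.Cliff
import Cfsg.Agent.H36.J2U.Bound

/-!
Generators of a group of Hall–Janko type satisfying the relators.
-/

set_option autoImplicit false

namespace H36.J2U

open H36.HJ

local notation "A5" => alternatingGroup (Fin 5)

variable {G : Type*} [Group G] [Finite G]
variable {z : G} {Q : Subgroup G} {χ : Subgroup.centralizer ({z} : Set G) →* A5}
variable {u h x c : G} {X0 : Subgroup G} {φ ψ : alternatingGroup (Fin 5) →* G}

/-- All the data used to define the generators. -/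
structure Std (z : G) (Q : Subgroup G) (χ : Subgroup.centralizer ({z} : Set G) →* A5)
    (u h x c : G) (X0 : Subgroup G) (φ ψ : A5 →* G) : Prop where
  full : Full z Q χ u h x c X0
  xlab : XLab z u X0 φ
  dlab : DLab z (φ Pw) (x * c) X0 ψ
  prod : U ψ u 0 * U ψ u 1 * U ψ u 2 * U ψ u 3 * u = 1

theorem exists_std (W : Two z Q χ) :
    ∃ u h x c X0 φ ψ, Std z Q χ u h x c X0 φ ψ := by
  obtain ⟨u, h, x, c, X0, S⟩ := W.exists_full
  obtain ⟨φ, L⟩ := exists_xlab S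
  obtain ⟨ψ, D, -⟩ := exists_dlab S (L.mem Pw) L.hw.1 L.hw.2
  obtain ⟨ψ', D', hp, -⟩ := exists_dlab_one S D
  exact ⟨u, h, x, c, X0, φ, ψ', S, L, D', hp⟩

/-- The six generators. -/
def six (z u : G) (φ ψ : A5 →* G) : Six G := ⟨z, u, φ Pw, ψ Pa, ψ Pv, ψ Pe⟩

namespace Std

theorem decomp (T : Std z Q χ u h x c X0 φ ψ) {g : G} (hg : Commute g z) :
    ∃ k, (ψ k)⁻¹ * g ∈ Q := by
  classical
  have S := T.full
  have H := S.hyp
  let f : A5 → A5 := fun k => img χ (T.dlab.commz k)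
  have hf : Function.Injective f := by
    intro k l e
    have hq := (H.img_eq_iff _ _).mp e
    have hm : (ψ k)⁻¹ * ψ l ∈ DH z (φ Pw) :=
      mem_DH.mpr ⟨(T.dlab.commw k).inv_left.mul_left (T.dlab.commw l),
        (T.dlab.commz k).inv_left.mul_left (T.dlab.commz l)⟩
    have := DH_inter_Q S (T.xlab.mem Pw) (Or.inr T.xlab.hw.1) hm hq T.xlab.hw.2
    exact T.dlab.inj (inv_mul_eq_one.mp this)
  obtain ⟨k, hk⟩ := Finite.surjective_of_injective hf (img χ hg)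
  exact ⟨k, (H.img_eq_iff _ _).mp hk⟩

theorem eq_u (T : Std z Q χ u h x c X0 φ ψ) :
    u = U ψ u 0 * (U ψ u 1 * (U ψ u 2 * U ψ u 3)) := by
  have e := eq_inv_of_mul_eq_one_left T.prod
  rw [inv_eq_of_mul_eq_one_right T.full.ctx.pair.uu] at e
  rw [← mul_assoc, ← mul_assoc, e]

/-- The rules bringing a word in `z, U₀, …, U₃` to normal form. -/
theorem rules (T : Std z Q χ u h x c X0 φ ψ) :
    ((∀ i, ∀ t : G, z * (U ψ u i * t) = U ψ u i * (z * t)) ∧ (∀ i, z * U ψ u i = U ψ u i * z)) ∧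
    ((∀ i, ∀ t : G, U ψ u i * (U ψ u i * t) = t) ∧ (∀ i, U ψ u i * U ψ u i = 1)) ∧
    ((∀ t : G, z * (z * t) = t) ∧ z * z = 1) ∧
    ((∀ t : G, U ψ u 1 * (U ψ u 0 * t) = U ψ u 0 * (U ψ u 1 * (z * t))) ∧
      U ψ u 1 * U ψ u 0 = U ψ u 0 * (U ψ u 1 * z)) ∧
    ((∀ t : G, U ψ u 2 * (U ψ u 0 * t) = U ψ u 0 * (U ψ u 2 * (z * t))) ∧
      U ψ u 2 * U ψ u 0 = U ψ u 0 * (U ψ u 2 * z)) ∧
    ((∀ t : G, U ψ u 3 * (U ψ u 0 * t) = U ψ u 0 * (U ψ u 3 * (z * t))) ∧
      U ψ u 3 * U ψ u 0 = U ψ u 0 * (U ψ u 3 * z)) ∧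
    ((∀ t : G, U ψ u 2 * (U ψ u 1 * t) = U ψ u 1 * (U ψ u 2 * (z * t))) ∧
      U ψ u 2 * U ψ u 1 = U ψ u 1 * (U ψ u 2 * z)) ∧
    ((∀ t : G, U ψ u 3 * (U ψ u 1 * t) = U ψ u 1 * (U ψ u 3 * (z * t))) ∧
      U ψ u 3 * U ψ u 1 = U ψ u 1 * (U ψ u 3 * z)) ∧
    ((∀ t : G, U ψ u 3 * (U ψ u 2 * t) = U ψ u 2 * (U ψ u 3 * (z * t))) ∧
      U ψ u 3 * U ψ u 2 = U ψ u 2 * (U ψ u 3 * z)) := by
  have L := T.dlab
  have S := T.full
  have hz : ∀ i, z * U ψ u i = U ψ u i * z := fun i => (L.U_z S i).eq.symm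
  have sw : ∀ {i j : Fin 5}, i ≠ j →
      ((∀ t : G, U ψ u i * (U ψ u j * t) = U ψ u j * (U ψ u i * (z * t))) ∧
        U ψ u i * U ψ u j = U ψ u j * (U ψ u i * z)) := fun hij =>
    ⟨fun t => by rw [← mul_assoc, L.anti S hij]; group, by rw [L.anti S hij, mul_assoc]⟩
  exact ⟨⟨fun i t => by rw [← mul_assoc, hz, mul_assoc], hz⟩,
    ⟨fun i t => by rw [← mul_assoc, L.U_sq S i, one_mul], L.U_sq S⟩,
    ⟨fun t => by rw [← mul_assoc, S.hyp.zz, one_mul], S.hyp.zz⟩,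
    sw (by decide), sw (by decide), sw (by decide), sw (by decide), sw (by decide), sw (by decide)⟩

theorem rot (T : Std z Q χ u h x c X0 φ ψ) :
    (φ Pr)⁻¹ * z * φ Pr = u ∧ (φ Pr)⁻¹ * u * φ Pr = u * z := by
  constructor
  · conv_rhs => rw [← T.xlab.hu, ← rot_z]
    rw [map_mul, map_mul, map_inv, T.xlab.hz]
  · conv_rhs => rw [← T.xlab.hz]; congr; rw [← T.xlab.hu]
    rw [← map_mul, ← rot_u, map_mul, map_mul, map_inv, T.xlab.hu]

theorem comm_rot (T : Std z Q χ u h x c X0 φ ψ) {k : A5} (hk : app k 4 = 4) :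
    Commute (ψ k) (φ Pr) := T.full.DD_comm_X0 (T.dlab.fix k hk) (T.xlab.mem Pr)

theorem conj_two (T : Std z Q χ u h x c X0 φ ψ) (k : A5) (i j : Fin 5) :
    ψ k * (U ψ u i * U ψ u j) * (ψ k)⁻¹ = U ψ u (app k i) * U ψ u (app k j) := by
  rw [← T.dlab.U_equiv T.full k i, ← T.dlab.U_equiv T.full k j]
  group

/-- The rotation sends `U₀U₁` to `f · U₀U₂ · uz`. -/
theorem six_rel (T : Std z Q χ u h x c X0 φ ψ) :
    (φ Pr)⁻¹ * (U ψ u 0 * U ψ u 1) * φ Pr = ψ Pf3 * (U ψ u 0 * U ψ u 2) * (u * z) := by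
  classical
  have S := T.full
  have H := S.hyp
  have P := S.ctx.pair
  have L := T.dlab
  have hu := T.eq_u
  obtain ⟨⟨zU, zU'⟩, ⟨UU, UU'⟩, ⟨ZZ, ZZ'⟩, ⟨s10, s10'⟩, ⟨s20, s20'⟩, ⟨s30, s30'⟩, ⟨s21, s21'⟩,
    ⟨s31, s31'⟩, ⟨s32, s32'⟩⟩ := T.rules
  obtain ⟨hrz, hru⟩ := T.rot
  set r := φ Pr
  set C := U ψ u 0 * U ψ u 1 with hC
  set ξ := r⁻¹ * C * r with hξ
  have hCz : Commute C z := (L.U_z S 0).mul_left (L.U_z S 1)
  have hC2 : C * C = z := by
    simp only [hC, mul_assoc, zU, zU', UU, UU', s10, s10', mul_one]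
  have hCu : Commute C u := by
    have h1 := L.conj_mon S 4 (false, true, true, false, false)
    rw [show par (false, true, true, false, false) 4 = false by decide +kernel, L.U_four S] at h1
    simp only [mon, pb, cond_false, cond_true, one_mul, mul_one] at h1
    exact (mul_inv_eq_iff_eq_mul.mp h1 : Commute u C).symm
  have hconj : ∀ {a : G}, Commute C a → Commute ξ (r⁻¹ * a * r) := fun {a} ha => by
    have := (conj_commute_iff (g := r⁻¹)).mpr ha
    simpa [ξ] using this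
  clear_value ξ
  have hξu : Commute ξ u := hrz ▸ hconj hCz
  have hξz : Commute ξ z := by
    have h1 := hconj (hCu.mul_right hCz)
    rwa [show r⁻¹ * (u * z) * r = r⁻¹ * u * r * (r⁻¹ * z * r) by group, hru, hrz,
      mul_assoc, ← (P.u_comm H).eq, ← mul_assoc, P.uu, one_mul] at h1
  have hξ2 : ξ * ξ = u := by
    rw [← hrz, ← hC2, hξ]; group
  obtain ⟨k, hkQ⟩ := T.decomp hξz
  set q := (ψ k)⁻¹ * ξ with hq
  have hξe : ξ = ψ k * q := by rw [hq, mul_inv_cancel_left]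
  clear_value q
  obtain ⟨e, he⟩ := L.mon_surj S hkQ
  have hqu := L.conj_mon S 4 e
  rw [L.U_four S, he] at hqu
  have hqu' : q * u * q⁻¹ = u * pb (par e 4) z := by
    have h2 : u * q = q * pb (par e 4) z * u := mul_inv_eq_iff_eq_mul.mp hqu
    cases hp : par e 4
    · rw [hp] at h2
      simp only [pb, cond_false, mul_one] at h2 ⊢
      rw [← h2, mul_inv_cancel_right]
    · rw [hp] at h2
      simp only [pb, cond_true] at h2 ⊢
      have h3 : q * u = u * q * z := by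
        rw [h2, mul_assoc (q * z), (P.u_comm H).eq, mul_assoc q z, ← mul_assoc z z, H.zz, one_mul]
      rw [h3, mul_assoc (u * q), ← (H.comm_z hkQ).inv_left.eq]
      group
  have hk4 : app k 4 = 4 := by
    by_contra hk
    obtain ⟨n1, n2⟩ := L.U_ne S (Ne.symm hk)
    rw [L.U_four S] at n1 n2
    have h1 : ψ k * (u * pb (par e 4) z) * (ψ k)⁻¹ = u := by
      rw [← hqu']
      calc ψ k * (q * u * q⁻¹) * (ψ k)⁻¹ = ξ * u * ξ⁻¹ := by rw [hξe]; group
        _ = u := by rw [hξu.eq, mul_inv_cancel_right]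
    have h2 : U ψ u (app k 4) = ψ k * u * (ψ k)⁻¹ := by rw [← L.U_equiv S k 4, L.U_four S]
    cases hp : par e 4
    · rw [hp] at h1
      simp only [pb, cond_false, mul_one] at h1
      exact n1 (h2.trans h1)
    · rw [hp] at h1
      simp only [pb, cond_true] at h1
      refine n2 (h2.trans ?_)
      conv_rhs => rw [← h1]
      calc ψ k * u * (ψ k)⁻¹ = ψ k * u * (ψ k)⁻¹ * (z * z) := by rw [H.zz, mul_one]
        _ = ψ k * u * ((ψ k)⁻¹ * z) * z := by group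
        _ = ψ k * (u * z) * (ψ k)⁻¹ * z := by rw [(L.commz k).inv_left.eq]; group
  have hku : Commute (ψ k) u := L.comm_u S hk4
  have hquc : Commute q u := hq ▸ hku.inv_left.mul_left hξu
  have hk2 : k * k = 1 := by
    refine L.inj ((DH_inter_Q S (T.xlab.mem Pw) (Or.inr T.xlab.hw.1) ?_ ?_ T.xlab.hw.2).trans
      (map_one ψ).symm)
    · exact mem_DH.mpr ⟨L.commw _, L.commz _⟩
    · have h1 : ψ (k * k) = u * ((ψ k)⁻¹ * q * ψ k * q)⁻¹ := by
        rw [map_mul, ← hξ2, hξe]; group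
      rw [h1]
      exact mul_mem P.sat.1 (inv_mem (mul_mem (H.conj_memQ' (L.commz k) hkQ) hkQ))
  have hk1 : k ≠ 1 := by
    rintro rfl
    rw [map_one, one_mul] at hξe
    rw [hξe] at hξ2
    rcases H.sq_cases hkQ with e1 | e1
    · exact P.u_ne_one (hξ2.symm.trans e1)
    · exact P.u_ne (hξ2.symm.trans e1)
  have hk3 : k = Pv ∨ k = Pf2 ∨ k = Pf3 :=
    (by decide +kernel : ∀ k : A5, app k 4 = 4 → k * k = 1 → k ≠ 1 → k = Pv ∨ k = Pf2 ∨ k = Pf3)
      k hk4 hk2 hk1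
  -- conjugation by `v`
  have hv4 : app Pv 4 = 4 := by decide +kernel
  have hvξ : ψ Pv * ξ * (ψ Pv)⁻¹ = ξ * u := by
    have hvr : Commute (ψ Pv) r := T.comm_rot hv4
    calc ψ Pv * ξ * (ψ Pv)⁻¹ = r⁻¹ * (ψ Pv * C * (ψ Pv)⁻¹) * r := by
          rw [hξ, show ψ Pv * (r⁻¹ * C * r) * (ψ Pv)⁻¹ = ψ Pv * r⁻¹ * C * (r * (ψ Pv)⁻¹) by group,
            hvr.inv_right.eq, ← hvr.inv_left.eq]
          group
      _ = r⁻¹ * (C * z) * r := by
          rw [hC, T.conj_two, show app Pv 0 = 1 by decide +kernel, show app Pv 1 = 0 by decide +kernel,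
            s10', mul_assoc (U ψ u 0) (U ψ u 1) z]
      _ = ξ * (r⁻¹ * z * r) := by rw [hξ]; group
      _ = ξ * u := by rw [hrz]
  have hvk : Commute (ψ Pv) (ψ k) := by
    have : Commute Pv k := by
      rcases hk3 with rfl | rfl | rfl <;> unfold Commute SemiconjBy <;> decide +kernel
    exact this.map ψ
  have hvq : ψ Pv * q * (ψ Pv)⁻¹ = q * u := by
    rw [hξe] at hvξ
    refine mul_left_cancel (a := ψ k) ?_
    calc ψ k * (ψ Pv * q * (ψ Pv)⁻¹) = ψ k * ψ Pv * q * (ψ Pv)⁻¹ := by group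
      _ = ψ Pv * (ψ k * q) * (ψ Pv)⁻¹ := by rw [← hvk.eq]; group
      _ = ψ k * (q * u) := by rw [hvξ, mul_assoc]
  -- the normal form of `q`
  have hconjpb : ∀ (b : Bool) (i : Fin 5),
      ψ Pv * pb b (U ψ u i) * (ψ Pv)⁻¹ = pb b (U ψ u (app Pv i)) := fun b i => by
    cases b
    · simp [pb]
    · exact L.U_equiv S Pv i
  have hfv : ψ Pv * q * (ψ Pv)⁻¹ = mon ψ z u
      ((e.1.xor (e.2.1 && e.2.2.1)).xor (e.2.2.2.1 && e.2.2.2.2),
        e.2.2.1, e.2.1, e.2.2.2.2, e.2.2.2.1) := by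
    rw [← he, mon, show ∀ g a b c d f : G, g * (a * b * c * d * f) * g⁻¹ =
      g * a * g⁻¹ * (g * b * g⁻¹) * (g * c * g⁻¹) * (g * d * g⁻¹) * (g * f * g⁻¹) from
        fun g a b c d f => by group,
      hconjpb, hconjpb, hconjpb, hconjpb, show app Pv 0 = 1 by decide +kernel,
      show app Pv 1 = 0 by decide +kernel, show app Pv 2 = 3 by decide +kernel,
      show app Pv 3 = 2 by decide +kernel,
      show ψ Pv * pb e.1 z * (ψ Pv)⁻¹ = pb e.1 z by
        cases e.1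
        · simp [pb]
        · simp [pb, (L.commz Pv).eq]]
    obtain ⟨s, a, b, c', d⟩ := e
    cases s <;> cases a <;> cases b <;> cases c' <;> cases d <;>
      simp [mon, pb, mul_assoc, zU, zU', UU, UU', ZZ, ZZ', s10, s10', s32, s32']
  have hmu : ∀ a : G, a * u = a * (U ψ u 0 * (U ψ u 1 * (U ψ u 2 * U ψ u 3))) :=
    fun a => congrArg (a * ·) hu
  have hfu : q * u = mon ψ z u ((e.1.xor e.2.2.1).xor e.2.2.2.2,
      !e.2.1, !e.2.2.1, !e.2.2.2.1, !e.2.2.2.2) := by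
    rw [← he, hmu]
    obtain ⟨s, a, b, c', d⟩ := e
    cases s <;> cases a <;> cases b <;> cases c' <;> cases d <;>
      simp [mon, pb, mul_assoc, zU, zU', UU, UU', ZZ, ZZ', s10, s10', s20, s20', s30, s30', s21, s21',
        s31, s31', s32, s32']
  have hee := L.mon_inj S (hfv.symm.trans (hvq.trans hfu))
  obtain ⟨E, hE, hqE⟩ : ∃ E, (E = 1 ∨ E = z ∨ E = u ∨ E = u * z) ∧ q = E * (U ψ u 0 * U ψ u 2) := by
    have : e.2 = (true, false, true, false) ∨ e.2 = (false, true, false, true) :=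
      (by decide +kernel : ∀ e : Bool × Bool × Bool × Bool × Bool,
        ((e.1.xor (e.2.1 && e.2.2.1)).xor (e.2.2.2.1 && e.2.2.2.2),
          e.2.2.1, e.2.1, e.2.2.2.2, e.2.2.2.1) =
        ((e.1.xor e.2.2.1).xor e.2.2.2.2, !e.2.1, !e.2.2.1, !e.2.2.2.1, !e.2.2.2.2) →
        e.2 = (true, false, true, false) ∨ e.2 = (false, true, false, true)) e hee
    obtain ⟨s, e'⟩ := e
    rcases this with h1 | h1 <;> simp only at h1 <;> subst h1 <;> cases s
    · exact ⟨1, Or.inl rfl, by rw [← he]; simp [mon, pb, mul_assoc]⟩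
    · exact ⟨z, Or.inr (Or.inl rfl), by rw [← he]; simp [mon, pb, mul_assoc]⟩
    · refine ⟨u, Or.inr (Or.inr (Or.inl rfl)), ?_⟩
      rw [← he]
      refine Eq.trans ?_ (congrArg (· * (U ψ u 0 * U ψ u 2)) hu).symm
      simp [mon, pb, mul_assoc, zU, zU', UU, UU', ZZ, ZZ', s10, s10', s20, s20', s30, s30', s21, s21',
        s31, s31', s32, s32']
    · refine ⟨u * z, Or.inr (Or.inr (Or.inr rfl)), ?_⟩
      rw [← he]
      refine Eq.trans ?_ (congrArg (· * z * (U ψ u 0 * U ψ u 2)) hu).symm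
      simp [mon, pb, mul_assoc, zU, zU', UU, UU', ZZ, ZZ', s10, s10', s20, s20', s30, s30', s21, s21',
        s31, s31', s32, s32']
  -- `E` is central among everything in sight
  have hEc : ∀ {g : G}, Commute g z → Commute g u → Commute E g := fun {g} gz gu => by
    rcases hE with rfl | rfl | rfl | rfl
    exacts [Commute.one_left g, gz.symm, gu.symm, (gu.mul_right gz).symm]
  have hE2 : E * E = 1 := P.inE_sq H hE
  have hψE : ∀ {l : A5}, app l 4 = 4 → Commute E (ψ l) := fun hl => hEc (L.commz _) (L.comm_u S hl)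
  have hUu : ∀ i j : Fin 5, i ≠ 4 → j ≠ 4 → i ≠ j → Commute E (U ψ u i * U ψ u j) := fun i j hi hj _ =>
    hEc ((L.U_z S i).mul_left (L.U_z S j)) (by
      have h1 := L.anti S hi
      have h2 := L.anti S hj
      rw [L.U_four S] at h1 h2
      show U ψ u i * U ψ u j * u = u * (U ψ u i * U ψ u j)
      calc U ψ u i * U ψ u j * u = U ψ u i * (U ψ u j * u) := mul_assoc _ _ _
        _ = U ψ u i * u * (U ψ u j * z) := by rw [h2]; group
        _ = u * U ψ u i * (z * U ψ u j) * z := by rw [h1]; group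
        _ = u * (U ψ u i * U ψ u j) := by rw [zU' j]; simp only [mul_assoc, ZZ', mul_one])
  have hk : k = Pf3 := by
    have hsq : ψ k * (U ψ u 0 * U ψ u 2) * (ψ k)⁻¹ * (U ψ u 0 * U ψ u 2) = u := by
      have h := hξ2
      rw [hξe, hqE] at h
      rw [show (ψ k)⁻¹ = ψ k by rw [← map_inv, inv_eq_of_mul_eq_one_right hk2]]
      set D := U ψ u 0 * U ψ u 2
      have c1 : Commute E (ψ k) := hψE hk4
      have c2 : Commute E D := hUu 0 2 (by decide) (by decide) (by decide)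
      refine Eq.trans ?_ h
      calc ψ k * D * ψ k * D = ψ k * D * ψ k * D * (E * E) := by rw [hE2, mul_one]
        _ = ψ k * D * (ψ k * D * E) * E := by group
        _ = ψ k * D * (E * (ψ k * D)) * E := by rw [(c1.mul_right c2).eq]
        _ = ψ k * (D * E) * (ψ k * (D * E)) := by group
        _ = ψ k * (E * D) * (ψ k * (E * D)) := by rw [c2.eq]
    rw [T.conj_two] at hsq
    rcases hk3 with rfl | rfl | rfl
    · rw [show app Pv 0 = 1 by decide +kernel, show app Pv 2 = 3 by decide +kernel] at hsq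
      have : U ψ u 1 * U ψ u 3 * (U ψ u 0 * U ψ u 2) = u * z := by
        refine Eq.trans ?_ (congrArg (· * z) hu).symm
        simp only [mul_assoc, zU, zU', UU, UU', ZZ, ZZ', s10, s10', s30, s30', s32, s32', s20, s20',
          s21, s21', mul_one]
      exact absurd (hsq.symm.trans this) (fun e1 => H.z_ne (mul_left_cancel (e1.symm.trans (mul_one u).symm)))
    · rw [show app Pf2 0 = 2 by decide +kernel, show app Pf2 2 = 0 by decide +kernel] at hsq
      have : U ψ u 2 * U ψ u 0 * (U ψ u 0 * U ψ u 2) = 1 := by simp only [mul_assoc, UU, UU']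
      exact absurd (hsq.symm.trans this) P.u_ne_one
    · rfl
  subst hk
  -- the triangle
  set A := ψ Pa⁻¹ with hA
  have hA4 : app Pa⁻¹ 4 = 4 := by decide +kernel
  have hAr : Commute A r := T.comm_rot hA4
  have htri : ξ * (A * ξ * A⁻¹) * (A * (A * ξ * A⁻¹) * A⁻¹) = 1 := by
    have h1 : ∀ y : G, A * (r⁻¹ * y * r) * A⁻¹ = r⁻¹ * (A * y * A⁻¹) * r := fun y => by
      rw [show A * (r⁻¹ * y * r) * A⁻¹ = A * r⁻¹ * y * (r * A⁻¹) by group, hAr.inv_right.eq,
        ← hAr.inv_left.eq]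
      group
    rw [hξ, h1, h1, show ∀ a b c : G, r⁻¹ * a * r * (r⁻¹ * b * r) * (r⁻¹ * c * r) = r⁻¹ * (a * b * c) * r
      from fun a b c => by group, hC, hA, T.conj_two, T.conj_two, show app Pa⁻¹ 0 = 1 by decide +kernel,
      show app Pa⁻¹ 1 = 2 by decide +kernel, show app Pa⁻¹ 2 = 0 by decide +kernel]
    simp only [mul_assoc, UU, UU', one_mul, mul_one, inv_mul_cancel]
  set D := U ψ u 0 * U ψ u 2
  have hAz : Commute A z := L.commz _
  have hAE : Commute E A := hψE hA4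
  have eξ : ξ = ψ Pf3 * D * E := by
    rw [hξe, hqE, (hUu 0 2 (by decide) (by decide) (by decide)).eq, ← mul_assoc (ψ Pf3) D E]
  have e1 : A * ξ * A⁻¹ = ψ Pf2 * (U ψ u 1 * U ψ u 0) * E := by
    have h2 : ψ Pf2 = A * ψ Pf3 * A⁻¹ := by
      rw [hA, ← map_inv, ← map_mul, ← map_mul]; congr 1
      all_goals decide +kernel
    rw [eξ, h2, show A * (ψ Pf3 * D * E) * A⁻¹ = A * ψ Pf3 * A⁻¹ * (A * D * A⁻¹) * (A * E * A⁻¹) by group,
      hA, T.conj_two, show app Pa⁻¹ 0 = 1 by decide +kernel, show app Pa⁻¹ 2 = 0 by decide +kernel,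
      ← hA, ← hAE.eq, mul_inv_cancel_right]
  have e2 : A * (A * ξ * A⁻¹) * A⁻¹ = ψ Pv * (U ψ u 2 * U ψ u 1) * E := by
    have h2 : ψ Pv = A * ψ Pf2 * A⁻¹ := by
      rw [hA, ← map_inv, ← map_mul, ← map_mul]; congr 1
      all_goals decide +kernel
    rw [e1, h2, show A * (ψ Pf2 * (U ψ u 1 * U ψ u 0) * E) * A⁻¹ =
      A * ψ Pf2 * A⁻¹ * (A * (U ψ u 1 * U ψ u 0) * A⁻¹) * (A * E * A⁻¹) by group,
      hA, T.conj_two, show app Pa⁻¹ 1 = 2 by decide +kernel, show app Pa⁻¹ 0 = 1 by decide +kernel,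
      ← hA, ← hAE.eq, mul_inv_cancel_right]
  rw [eξ] at htri ⊢
  rw [← eξ, e2, e1, eξ] at htri
  have hval : ψ Pf3 * D * (ψ Pf2 * (U ψ u 1 * U ψ u 0)) * (ψ Pv * (U ψ u 2 * U ψ u 1)) = u * z := by
    have p1 : ψ Pf3 * ψ Pf2 * ψ Pv = 1 := by
      rw [← map_mul, ← map_mul, show Pf3 * Pf2 * Pv = 1 by decide +kernel, map_one]
    have p2 : (ψ Pf2 * ψ Pv)⁻¹ = ψ Pf3 := by
      rw [← map_mul, ← map_inv]; congr 1
      all_goals decide +kernel
    have p3 : ψ Pf2 * ψ Pv = (ψ Pf3)⁻¹ := by rw [← p2, inv_inv]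
    have p4 : (ψ Pv)⁻¹ = ψ Pv := by
      rw [← map_inv]; congr 1
      all_goals decide +kernel
    calc ψ Pf3 * D * (ψ Pf2 * (U ψ u 1 * U ψ u 0)) * (ψ Pv * (U ψ u 2 * U ψ u 1))
        = ψ Pf3 * ψ Pf2 * ψ Pv * ((ψ Pf2 * ψ Pv)⁻¹ * D * (ψ Pf2 * ψ Pv)) *
            ((ψ Pv)⁻¹ * (U ψ u 1 * U ψ u 0) * ψ Pv) * (U ψ u 2 * U ψ u 1) := by group
      _ = U ψ u 3 * U ψ u 1 * (U ψ u 0 * U ψ u 1) * (U ψ u 2 * U ψ u 1) := by
          rw [p1, one_mul, p2, p3, T.conj_two, p4]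
          conv_lhs => arg 1; arg 2; arg 2; rw [← p4]
          rw [T.conj_two, show app Pf3 0 = 3 by decide +kernel, show app Pf3 2 = 1 by decide +kernel,
            show app Pv 1 = 0 by decide +kernel, show app Pv 0 = 1 by decide +kernel]
      _ = u * z := by
          refine Eq.trans ?_ (congrArg (· * z) hu).symm
          simp only [mul_assoc, zU, zU', UU, UU', ZZ, ZZ', s10, s10', s30, s30', s31, s31', s32, s32',
            s20, s20', s21, s21', mul_one]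
  have hEy : ∀ {g : G}, Commute E g → ∀ y : G, E * (g * y) = g * (E * y) := fun hg y => by
    rw [← mul_assoc, hg.eq, mul_assoc]
  have hEE : E = u * z := by
    have c2 : Commute E (ψ Pf2 * (U ψ u 1 * U ψ u 0)) :=
      (hψE (by decide +kernel)).mul_right (hUu 1 0 (by decide) (by decide) (by decide))
    have c3 : Commute E (ψ Pv * (U ψ u 2 * U ψ u 1)) :=
      (hψE hv4).mul_right (hUu 2 1 (by decide) (by decide) (by decide))
    have h4 : ψ Pf3 * D * E * (ψ Pf2 * (U ψ u 1 * U ψ u 0) * E) =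
        ψ Pf3 * D * (ψ Pf2 * (U ψ u 1 * U ψ u 0)) := by
      rw [mul_assoc, hEy c2, hE2, mul_one]
    rw [h4, ← mul_assoc] at htri
    have h3 := htri
    rw [hval] at h3
    rw [eq_inv_of_mul_eq_one_right h3, inv_eq_of_mul_eq_one_right (H.sat_mul_z P.sat).2.1]
  rw [hEE]

end Std

end H36.J2U
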