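import Cfsg.Agent.H36.HJ.Basic
import Cfsg.Agent.H36.J2U.Data

/-!
Named permutations and facts about `A₅` used to label the generators.
-/

set_option autoImplicit false
set_option synthInstance.maxSize 4000
set_option synthInstance.maxHeartbeats 200000

namespace H36.J2U

local notation "A5" => alternatingGroup (Fin 5)

/-- `(14)(23)`, the label of `z`. -/
def Pz : A5 := ⟨Equiv.swap 1 4 * Equiv.swap 2 3, by rw [Equiv.Perm.mem_alternatingGroup]; decide⟩
/-- `(13)(24)`, the label of `u`. -/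
def Pu : A5 := ⟨Equiv.swap 1 3 * Equiv.swap 2 4, by rw [Equiv.Perm.mem_alternatingGroup]; decide⟩
/-- `(43210)`, the label of `W`. -/
def Pw : A5 := ⟨(finRotate 5)⁻¹, by rw [Equiv.Perm.mem_alternatingGroup]; decide⟩
/-- `(021)`, the label of `a`. -/
def Pa : A5 := ⟨Equiv.swap 1 2 * Equiv.swap 0 1, by rw [Equiv.Perm.mem_alternatingGroup]; decide⟩
/-- `(01)(23)`, the label of `v`. -/
def Pv : A5 := ⟨Equiv.swap 0 1 * Equiv.swap 2 3, by rw [Equiv.Perm.mem_alternatingGroup]; decide⟩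
/-- `(14)(23)`, the label of `e`. -/
def Pe : A5 := ⟨Equiv.swap 1 4 * Equiv.swap 2 3, by rw [Equiv.Perm.mem_alternatingGroup]; decide⟩
/-- `(02)(13)`. -/
def Pf2 : A5 := ⟨Equiv.swap 0 2 * Equiv.swap 1 3, by rw [Equiv.Perm.mem_alternatingGroup]; decide⟩
/-- `(03)(12)`. -/
def Pf3 : A5 := ⟨Equiv.swap 0 3 * Equiv.swap 1 2, by rw [Equiv.Perm.mem_alternatingGroup]; decide⟩
/-- The transposition `(01)` used to relabel. -/
def Psw : Equiv.Perm (Fin 5) := Equiv.swap 0 1

/-- Conjugation of `A₅` by a permutation of five points. -/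
def cj (σ : Equiv.Perm (Fin 5)) : A5 →* A5 where
  toFun k := ⟨σ * k * σ⁻¹, (alternatingGroup.normal (α := Fin 5)).conj_mem k k.2 σ⟩
  map_one' := Subtype.ext (by simp)
  map_mul' a b := Subtype.ext (by simp [mul_assoc])

theorem cj_injective (σ : Equiv.Perm (Fin 5)) : Function.Injective (cj σ) := fun a b h => by
  have := congrArg Subtype.val h
  exact Subtype.ext (mul_left_cancel (mul_right_cancel this))

theorem cj_surjective (σ : Equiv.Perm (Fin 5)) : Function.Surjective (cj σ) :=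
  Finite.surjective_of_injective (cj_injective σ)

/-- The image of the point `j` under `k`. -/
def app (k : A5) (j : Fin 5) : Fin 5 := (k : Equiv.Perm (Fin 5)) j

theorem app_mul (k l : A5) (j : Fin 5) : app (k * l) j = app k (app l j) := rfl

theorem app_inv (k : A5) (j : Fin 5) : app k (app k⁻¹ j) = j := by
  rw [← app_mul, mul_inv_cancel]; rfl

theorem four_pair : ∀ a b : A5, a * a = 1 → a ≠ 1 → b * b = 1 → b ≠ 1 → a ≠ b → a * b = b * a →
    ∃ σ : Equiv.Perm (Fin 5), σ * (a : Equiv.Perm (Fin 5)) * σ⁻¹ = Pz ∧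
      σ * (b : Equiv.Perm (Fin 5)) * σ⁻¹ = Pu := by decide +kernel

theorem a4_pair : ∀ a b : A5, a * a * a = 1 → a ≠ 1 → b * b = 1 → b ≠ 1 →
    (a * b) * (a * b) * (a * b) = 1 →
    ∃ σ : Equiv.Perm (Fin 5), σ * (a : Equiv.Perm (Fin 5)) * σ⁻¹ = Pa ∧
      σ * (b : Equiv.Perm (Fin 5)) * σ⁻¹ = Pv := by decide +kernel

theorem a4_alt : ∀ a b : alternatingGroup (Fin 4), a * a * a = 1 → a ≠ 1 → b * b = 1 → b ≠ 1 →
    (a * b) * (a * b) * (a * b) = 1 := by decide +kernel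

/-- The twelve elements fixing the point four. -/
def stab4 : List A5 :=
  [1, Pa, Pa⁻¹, Pv, Pa * Pv, Pa⁻¹ * Pv, Pf2, Pa * Pf2, Pa⁻¹ * Pf2, Pf3, Pa * Pf3, Pa⁻¹ * Pf3]

theorem stab4_spec : ∀ k : A5, app k 4 = 4 → k ∈ stab4 := by decide +kernel

theorem stab4_fix : ∀ k ∈ stab4, app k 4 = 4 := by decide +kernel

theorem f2_word : Pf2 = Pa * Pv * Pa⁻¹ := by decide +kernel

theorem f3_word : Pf3 = Pa⁻¹ * Pv * Pa := by decide +kernel

theorem double_coset : ∀ k : A5, app k 4 = 4 ∨ ∃ d ∈ stab4, ∃ d' ∈ stab4, k = d * Pe * d' := by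
  decide +kernel

/-- An element moving `i` to `4`. -/
def mv : Fin 5 → A5
  | 0 => Pe * Pa⁻¹
  | 1 => Pe
  | 2 => Pe * Pa
  | 3 => Pe * Pa * Pv
  | 4 => 1

theorem mv_spec : ∀ i, app (mv i) i = 4 := by decide +kernel

theorem two_trans : ∀ i j : Fin 5, i ≠ j → ∃ k : A5, app k i = 4 ∧ app k j = 1 := by decide +kernel

/-- A subgroup containing `Pa` and `Pv` contains the stabiliser of `4`. -/
theorem stab4_le (M : Subgroup A5) (ha : Pa ∈ M) (hv : Pv ∈ M) : ∀ k ∈ stab4, k ∈ M := by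
  intro k hk
  simp only [stab4, f2_word, f3_word, List.mem_cons, List.not_mem_nil, or_false] at hk
  rcases hk with rfl | rfl | rfl | rfl | rfl | rfl | rfl | rfl | rfl | rfl | rfl | rfl <;>
    simp only [mul_mem_cancel_left, one_mem, ha, hv, inv_mem, mul_mem, inv_mem_iff] <;>
    repeat' first | exact ha | exact hv | apply mul_mem | apply inv_mem

/-- Any subgroup containing the standard generators is everything. -/
theorem gen_top (M : Subgroup A5) (ha : Pa ∈ M) (hv : Pv ∈ M) (he : Pe ∈ M) : M = ⊤ := by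
  have hs := stab4_le M ha hv
  refine eq_top_iff.mpr fun k _ => ?_
  rcases double_coset k with h | ⟨d, hd, d', hd', rfl⟩
  · exact hs k (stab4_spec k h)
  · exact mul_mem (mul_mem (hs d hd) he) (hs d' hd')

/-- Evaluation of the relator letters `a, a⁻¹, v, e`. -/
def evA : Nat → A5
  | 4 => Pa
  | 5 => Pa⁻¹
  | 6 => Pv
  | 7 => Pe
  | _ => 1

/-- Evaluation of the relator letters `z, u, W, W⁻¹`. -/
def evX : Nat → A5
  | 0 => Pz
  | 1 => Pu
  | 2 => Pw
  | 3 => Pw⁻¹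
  | _ => 1

theorem relators_X : ∀ w ∈ relators, (∀ g ∈ w, g < 4) → (w.map evX).prod = 1 := by decide +kernel

theorem relators_A : ∀ w ∈ relators, (∀ g ∈ w, 4 ≤ g) → (w.map evA).prod = 1 := by decide +kernel

/-- The rotation `W W u W`. -/
def Pr : A5 := Pw * Pw * Pu * Pw

theorem rot_z : Pr⁻¹ * Pz * Pr = Pu := by decide +kernel

theorem rot_u : Pr⁻¹ * Pu * Pr = Pu * Pz := by decide +kernel

theorem pw_inv : Pz * Pw * Pz⁻¹ = Pw⁻¹ := by decide +kernel

theorem pw_five : Pw ^ 5 = 1 ∧ Pw ≠ 1 := by decide +kernel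

theorem zu_neq : Pz ≠ 1 ∧ Pu ≠ 1 := by decide +kernel

end H36.J2U
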