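import Cfsg.Agent.H36.HJ.Main
import Cfsg.Agent.H36.J2U.Cent
import Cfsg.Agent.H36.J2U.Perms

/-!
Labelling the two commuting copies of `A₅`.
-/

set_option autoImplicit false

namespace H36.J2U

open H36.HJ

local notation "A5" => alternatingGroup (Fin 5)

variable {G : Type*} [Group G] [Finite G]
variable {z : G} {Q : Subgroup G} {χ : Subgroup.centralizer ({z} : Set G) →* A5}
variable {u h x c : G} {X0 : Subgroup G} {w : G} {φ : alternatingGroup (Fin 5) →* G}

/-- `φ` labels `X₀`. -/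
structure XLab (z u : G) (X0 : Subgroup G) (φ : A5 →* G) : Prop where
  inj : Function.Injective φ
  mem : ∀ k, φ k ∈ X0
  hz : φ Pz = z
  hu : φ Pu = u

/-- `ψ` labels the centraliser of `⟨W, z⟩`. -/
structure DLab (z w y : G) (X0 : Subgroup G) (ψ : A5 →* G) : Prop where
  inj : Function.Injective ψ
  commz : ∀ k, Commute (ψ k) z
  commw : ∀ k, Commute (ψ k) w
  fix : ∀ k, app k 4 = 4 → ψ k ∈ DD y X0

theorem exists_xlab (S : Full z Q χ u h x c X0) : ∃ φ, XLab z u X0 φ := by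
  classical
  have H := S.hyp
  have P := S.ctx.pair
  obtain ⟨e⟩ := S.X0_iso
  have hz : z ∈ X0 := S.inE_mem Full.inE_z
  have hu : u ∈ X0 := S.inE_mem (Or.inr (Or.inr (Or.inl rfl)))
  set z' : X0 := ⟨z, hz⟩
  set u' : X0 := ⟨u, hu⟩
  have hne1 : ∀ {a : X0}, (a : G) ≠ 1 → e a ≠ 1 := fun ha e1 =>
    ha (congrArg Subtype.val (e.injective (e1.trans (map_one e).symm)))
  obtain ⟨σ, hσz, hσu⟩ := four_pair (e z') (e u')
    (by rw [← map_mul, show z' * z' = 1 from Subtype.ext H.zz, map_one]) (hne1 H.z_ne)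
    (by rw [← map_mul, show u' * u' = 1 from Subtype.ext P.uu, map_one]) (hne1 P.u_ne_one)
    (fun e1 => P.u_ne (congrArg Subtype.val (e.injective e1)).symm)
    (by rw [← map_mul, ← map_mul, show z' * u' = u' * z' from Subtype.ext (P.u_comm H).symm.eq])
  refine ⟨X0.subtype.comp ((e.symm : A5 →* X0).comp (cj σ⁻¹)), ?_, fun k => SetLike.coe_mem _, ?_, ?_⟩
  · exact X0.subtype_injective.comp (e.symm.injective.comp (cj_injective σ⁻¹))
  · have h1 : cj σ⁻¹ Pz = e z' := Subtype.ext (by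
      show σ⁻¹ * (Pz : Equiv.Perm (Fin 5)) * σ⁻¹⁻¹ = _
      rw [← hσz]; group)
    show ((e.symm (cj σ⁻¹ Pz) : X0) : G) = z
    rw [h1, e.symm_apply_apply]
  · have h1 : cj σ⁻¹ Pu = e u' := Subtype.ext (by
      show σ⁻¹ * (Pu : Equiv.Perm (Fin 5)) * σ⁻¹⁻¹ = _
      rw [← hσu]; group)
    show ((e.symm (cj σ⁻¹ Pu) : X0) : G) = u
    rw [h1, e.symm_apply_apply]

theorem XLab.hw (L : XLab z u X0 φ) : orderOf (φ Pw) = 5 ∧ z * φ Pw * z⁻¹ = (φ Pw)⁻¹ := by
  haveI : Fact (Nat.Prime 5) := ⟨by norm_num⟩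
  refine ⟨?_, ?_⟩
  · rw [orderOf_injective φ L.inj]
    exact orderOf_eq_prime pw_five.1 pw_five.2
  · rw [← L.hz, ← map_inv, ← map_mul, ← map_mul, pw_inv, map_inv]

theorem DH_inter_Q (S : Full z Q χ u h x c X0) (hwX : w ∈ X0) (hw : IsOdd w) {q : G}
    (hq : q ∈ DH z w) (hQ : q ∈ Q) (hinv : z * w * z⁻¹ = w⁻¹) : q = 1 := by
  have H := S.hyp
  obtain ⟨hqw, -⟩ := mem_DH.mp hq
  have hwz : ¬ Commute z w := fun hc => hw.ne_one (hw.eq_one_of_sq (Subgroup.mem_zpowers w) (by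
    rw [hc.eq, mul_inv_cancel_right] at hinv
    exact eq_inv_iff_mul_eq_one.mp hinv))
  have hwy : Commute w (x * c) := S.kernel.comm_y hwX
  -- no involution of `Q` commutes with `w`
  have key : ∀ r ∈ Q, Commute r w → r * r = 1 → r = 1 := by
    intro r hr hrw hr2
    by_contra hr1
    rcases eq_or_ne r z with rfl | hrz
    · exact hwz hrw
    · exact S.two.no_both S.ctx hw (H.sat_isConj ⟨hr, hr2, hr1, hrz⟩) (IsConj.refl _) hrw.symm hwy
  rcases H.sq_cases hQ with e | e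
  · exact key q hQ hqw e
  · exact absurd (e ▸ hqw.mul_left hqw) hwz

theorem exists_dlab (S : Full z Q χ u h x c X0) (hwX : w ∈ X0) (hwo : orderOf w = 5)
    (hinv : z * w * z⁻¹ = w⁻¹) :
    ∃ ψ, DLab z w (x * c) X0 ψ ∧ ∀ g ∈ DH z w, ∃ k, ψ k = g := by
  classical
  have H := S.hyp
  set f : DH z w →* A5 := χ.comp (Subgroup.inclusion (inf_le_right :
    DH z w ≤ Subgroup.centralizer ({z} : Set G)))
  have hf : Function.Injective f := by
    refine (injective_iff_map_eq_one f).mpr fun g hg => Subtype.ext ?_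
    exact DH_inter_Q S hwX (Or.inr hwo) g.2 ((H.ker _).mp hg) hinv
  have hb : Function.Bijective f := hf.bijective_of_nat_card_le (by
    rw [card_DH S hwX hwo hinv, nat_card_alternatingGroup, Nat.card_eq_fintype_card, Fintype.card_fin]
    decide)
  set E : DH z w ≃* A5 := MulEquiv.ofBijective f hb
  obtain ⟨g, hg3, hgD, -, hny⟩ := S.exists_three
  have hyD : x * c ∈ DD (x * c) X0 := S.FF_le_DD S.y_mem
  set g' : DH z w := ⟨g, DD_le_DH S hwX hgD⟩
  set y' : DH z w := ⟨x * c, DD_le_DH S hwX hyD⟩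
  have hne1 : ∀ {a : DH z w}, (a : G) ≠ 1 → E a ≠ 1 := fun ha e1 =>
    ha (congrArg Subtype.val (E.injective (e1.trans (map_one E).symm)))
  have hg333 : g * g * g = 1 := by
    rw [← pow_two, ← pow_succ]
    exact orderOf_dvd_iff_pow_eq_one.mp (by rw [hg3])
  have hg1 : g ≠ 1 := fun e => by rw [e, orderOf_one] at hg3; omega
  have hy1 : x * c ≠ 1 := S.ctx.ne_one H
  have hy2 := S.FF_sq S.y_mem
  have hgy : g * (x * c) * (g * (x * c)) * (g * (x * c)) = 1 := by
    obtain ⟨i⟩ := S.DD_iso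
    set gd : DD (x * c) X0 := ⟨g, hgD⟩
    set yd : DD (x * c) X0 := ⟨x * c, hyD⟩
    have h4 := a4_alt (i gd) (i yd)
      (by rw [← map_mul, ← map_mul, show gd * gd * gd = 1 from Subtype.ext hg333, map_one])
      (fun e1 => hg1 (congrArg Subtype.val (i.injective (e1.trans (map_one i).symm))))
      (by rw [← map_mul, show yd * yd = 1 from Subtype.ext hy2, map_one])
      (fun e1 => hy1 (congrArg Subtype.val (i.injective (e1.trans (map_one i).symm))))
    rw [← map_mul, ← map_mul, ← map_mul] at h4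
    exact congrArg Subtype.val (i.injective (h4.trans (map_one i).symm))
  obtain ⟨σ, hσg, hσy⟩ := a4_pair (E g') (E y')
    (by rw [← map_mul, ← map_mul, show g' * g' * g' = 1 from Subtype.ext hg333, map_one]) (hne1 hg1)
    (by rw [← map_mul, show y' * y' = 1 from Subtype.ext hy2, map_one]) (hne1 hy1)
    (by rw [← map_mul, ← map_mul, ← map_mul,
      show g' * y' * (g' * y') * (g' * y') = 1 from Subtype.ext hgy, map_one])
  set ψ : A5 →* G := (DH z w).subtype.comp ((E.symm : A5 →* DH z w).comp (cj σ⁻¹)) with hψ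
  have hmem : ∀ k, ψ k ∈ DH z w := fun k => SetLike.coe_mem _
  have hψa : ψ Pa = g := by
    have h1 : cj σ⁻¹ Pa = E g' := Subtype.ext (by
      show σ⁻¹ * (Pa : Equiv.Perm (Fin 5)) * σ⁻¹⁻¹ = _
      rw [← hσg]; group)
    show ((E.symm (cj σ⁻¹ Pa) : DH z w) : G) = g
    rw [h1, E.symm_apply_apply]
  have hψv : ψ Pv = x * c := by
    have h1 : cj σ⁻¹ Pv = E y' := Subtype.ext (by
      show σ⁻¹ * (Pv : Equiv.Perm (Fin 5)) * σ⁻¹⁻¹ = _
      rw [← hσy]; group)
    show ((E.symm (cj σ⁻¹ Pv) : DH z w) : G) = x * c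
    rw [h1, E.symm_apply_apply]
  refine ⟨ψ, ⟨(DH z w).subtype_injective.comp (E.symm.injective.comp (cj_injective σ⁻¹)),
    fun k => (mem_DH.mp (hmem k)).2, fun k => (mem_DH.mp (hmem k)).1, fun k hk => ?_⟩, fun a ha => ?_⟩
  · have hA : Pa ∈ (DD (x * c) X0).comap ψ := by
      rw [Subgroup.mem_comap, hψa]; exact hgD
    have hV : Pv ∈ (DD (x * c) X0).comap ψ := by
      rw [Subgroup.mem_comap, hψv]; exact hyD
    show k ∈ (DD (x * c) X0).comap ψ
    exact stab4_le _ hA hV k (stab4_spec k hk)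
  · obtain ⟨l, hl⟩ := cj_surjective σ⁻¹ (E ⟨a, ha⟩)
    refine ⟨l, ?_⟩
    show ((E.symm (cj σ⁻¹ l) : DH z w) : G) = a
    rw [hl, E.symm_apply_apply]

end H36.J2U
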