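import Cfsg.Agent.H36.J2U.Gens

/-!
Any two groups of Hall–Janko type are isomorphic.
-/

set_option autoImplicit false

namespace H36.J2U

open H36.HJ

local notation "A5" => alternatingGroup (Fin 5)

variable {G : Type*} [Group G] [Finite G]
variable {z : G} {Q : Subgroup G} {χ : Subgroup.centralizer ({z} : Set G) →* A5}
variable {u h x c : G} {X0 : Subgroup G} {φ ψ : alternatingGroup (Fin 5) →* G}

/-- The relators mixing both kinds of letters. -/
def mixed : List (List Nat) :=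
  [[0, 4, 0, 5], [0, 6, 0, 6], [1, 4, 1, 5], [1, 6, 1, 6], [2, 4, 3, 5], [2, 6, 3, 6], [0, 7, 0, 7],
    [2, 7, 3, 7], [1, 7, 1, 7, 1, 7, 1, 7, 0],
    [4, 7, 1, 7, 5, 7, 1, 7, 5, 7, 1, 7, 4, 6, 5, 7, 1, 7, 4, 6, 1],
    [3, 1, 3, 3, 4, 7, 1, 7, 5, 7, 1, 7, 2, 2, 1, 2, 0, 1, 5, 7, 1, 7, 4, 4, 7, 1, 7, 5, 5, 6, 4]]

theorem relators_split : ∀ w ∈ relators, (∀ g ∈ w, g < 4) ∨ (∀ g ∈ w, 4 ≤ g) ∨ w ∈ mixed := by
  decide +kernel

namespace Std

theorem U_word (T : Std z Q χ u h x c X0 φ ψ) :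
    U ψ u 1 = ψ Pe * (u * ψ Pe) ∧ U ψ u 0 = ψ Pa * (ψ Pe * (u * (ψ Pe * (ψ Pa)⁻¹))) ∧
      U ψ u 2 = (ψ Pa)⁻¹ * (ψ Pe * (u * (ψ Pe * ψ Pa))) ∧
      U ψ u 3 = ψ Pv * ((ψ Pa)⁻¹ * (ψ Pe * (u * (ψ Pe * (ψ Pa * ψ Pv))))) := by
  have L := T.dlab
  have S := T.full
  have he : (ψ Pe)⁻¹ = ψ Pe := by
    rw [← map_inv]; congr 1
    all_goals decide +kernel
  have hv : (ψ Pv)⁻¹ = ψ Pv := by
    rw [← map_inv]; congr 1
    all_goals decide +kernel
  have h1 := L.U_equiv S Pe 4
  rw [show app Pe 4 = 1 by decide +kernel, L.U_four S, he, mul_assoc] at h1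
  have h0 := L.U_equiv S Pa 1
  rw [show app Pa 1 = 0 by decide +kernel, ← h1] at h0
  have h2 := L.U_equiv S Pa⁻¹ 1
  rw [show app Pa⁻¹ 1 = 2 by decide +kernel, ← h1, map_inv, inv_inv] at h2
  have h3 := L.U_equiv S Pv 2
  rw [show app Pv 2 = 3 by decide +kernel, ← h2, hv] at h3
  exact ⟨h1.symm, by rw [← h0]; group, by rw [← h2]; group, by rw [← h3]; group⟩

theorem rels (T : Std z Q χ u h x c X0 φ ψ) : (six z u φ ψ).Rels := by
  have S := T.full
  have L := T.dlab
  have X := T.xlab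
  intro w hw
  rcases relators_split w hw with hX | hA | hM
  · have hev : ∀ g ∈ w, (six z u φ ψ).ev g = φ (evX g) := by
      intro g hg
      have := hX g hg
      interval_cases g
      exacts [X.hz.symm, X.hu.symm, rfl, (map_inv φ Pw).symm]
    rw [List.map_congr_left hev]
    show (w.map (φ ∘ evX)).prod = 1
    rw [← List.map_map, ← map_list_prod, relators_X w hw hX, map_one]
  · have hev : ∀ g ∈ w, (six z u φ ψ).ev g = ψ (evA g) := by
      intro g hg
      match g, hA g hg with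
      | 4, _ => rfl
      | 5, _ => exact (map_inv ψ Pa).symm
      | 6, _ => rfl
      | 7, _ => rfl
      | n + 8, _ => exact (map_one ψ).symm
    rw [List.map_congr_left hev]
    show (w.map (ψ ∘ evA)).prod = 1
    rw [← List.map_map, ← map_list_prod, relators_A w hw hA, map_one]
  · obtain ⟨e1, e0, e2, e3⟩ := T.U_word
    have hzz := S.hyp.zz
    have huu := S.ctx.pair.uu
    have hee : ψ Pe * ψ Pe = 1 := by
      rw [← map_mul, show Pe * Pe = 1 by decide +kernel, map_one]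
    have hvv : ψ Pv * ψ Pv = 1 := by
      rw [← map_mul, show Pv * Pv = 1 by decide +kernel, map_one]
    have key : ∀ {p q : G}, Commute p q → p * p = 1 → p * (q * (p * q⁻¹)) = 1 := fun {p q} hc hp => by
      rw [← mul_assoc q p, ← hc.eq, mul_assoc p q, mul_inv_cancel, mul_one, hp]
    have key2 : ∀ {p q : G}, Commute p q → q * q = 1 → p * (q * (p⁻¹ * q)) = 1 := fun {p q} hc hq => by
      rw [← mul_assoc p q, hc.eq, mul_assoc q p, mul_inv_cancel_left, hq]
    have key3 : ∀ {p q : G}, Commute p q → p * p = 1 → q * q = 1 → p * (q * (p * q)) = 1 :=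
      fun {p q} hc hp hq => by
        rw [← mul_assoc q p, ← hc.eq, mul_assoc p q, hq, mul_one, hp]
    have hfa : app Pa 4 = 4 := by decide +kernel
    have hfv : app Pv 4 = 4 := by decide +kernel
    have hFv : ψ Pf3 = (ψ Pa)⁻¹ * (ψ Pv * ψ Pa) := by
      rw [f3_word, map_mul, map_mul, map_inv, mul_assoc]
    simp only [mixed, List.mem_cons, List.not_mem_nil, or_false] at hM
    rcases hM with rfl | rfl | rfl | rfl | rfl | rfl | rfl | rfl | rfl | rfl | rfl <;>
      simp only [List.map_cons, List.map_nil, List.prod_cons, List.prod_nil, mul_one] <;>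
      simp only [Six.ev, six]
    · exact key (L.commz Pa).symm hzz
    · exact key3 (L.commz Pv).symm hzz hvv
    · exact key (L.comm_u S hfa).symm huu
    · exact key3 (L.comm_u S hfv).symm huu hvv
    · rw [← mul_assoc (φ Pw) (ψ Pa), (L.commw Pa).symm.eq, mul_assoc (ψ Pa), mul_inv_cancel_left,
        mul_inv_cancel]
    · exact key2 (L.commw Pv).symm hvv
    · exact key3 (L.commz Pe).symm hzz hee
    · exact key2 (L.commw Pe).symm hee
    · have h14 := L.anti S (by decide : (4 : Fin 5) ≠ 1)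
      rw [L.U_four S] at h14
      calc u * (ψ Pe * (u * (ψ Pe * (u * (ψ Pe * (u * (ψ Pe * z)))))))
          = (u * (ψ Pe * (u * ψ Pe))) * (u * (ψ Pe * (u * ψ Pe))) * z := by group
        _ = (U ψ u 1 * u * z) * (u * U ψ u 1) * z := by rw [← e1, h14]
        _ = U ψ u 1 * (u * (z * u)) * U ψ u 1 * z := by group
        _ = U ψ u 1 * z * U ψ u 1 * z := by
            rw [← (S.ctx.pair.u_comm S.hyp).eq, ← mul_assoc u u, huu, one_mul]
        _ = 1 := by
            calc U ψ u 1 * z * U ψ u 1 * z = U ψ u 1 * (z * U ψ u 1) * z := by group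
              _ = U ψ u 1 * U ψ u 1 * (z * z) := by rw [← (L.U_z S 1).eq]; group
              _ = 1 := by rw [L.U_sq S 1, one_mul, hzz]
    · rw [← T.prod, e0, e1, e2, e3]
      group
    · have h6 := T.six_rel
      have hr : φ Pr = φ Pw * (φ Pw * (u * φ Pw)) := by
        rw [Pr, map_mul, map_mul, map_mul, X.hu, mul_assoc, mul_assoc]
      have ha2 : (ψ Pa)⁻¹ * (ψ Pa)⁻¹ = ψ Pa := by
        rw [← map_inv, ← map_mul, show Pa⁻¹ * Pa⁻¹ = Pa by decide +kernel]
      have h7 : (φ Pr)⁻¹ * (U ψ u 0 * U ψ u 1) * φ Pr * (z * u * ((U ψ u 0 * U ψ u 2)⁻¹ * (ψ Pf3)⁻¹)) = 1 := by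
        rw [h6, show z * u = (u * z)⁻¹ by
          rw [mul_inv_rev, inv_eq_of_mul_eq_one_right hzz, inv_eq_of_mul_eq_one_right huu]]
        group
      rw [mul_inv_rev (U ψ u 0), inv_eq_of_mul_eq_one_right (L.U_sq S 0),
        inv_eq_of_mul_eq_one_right (L.U_sq S 2), hFv, hr, e0, e1, e2] at h7
      refine Eq.trans ?_ h7
      have hui := inv_eq_of_mul_eq_one_right huu
      have hvi := inv_eq_of_mul_eq_one_right hvv
      simp only [mul_inv_rev, inv_inv, hui, hvi, mul_assoc]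

theorem gen (T : Std z Q χ u h x c X0 φ ψ) : (six z u φ ψ).gp = ⊤ := by
  classical
  have S := T.full
  have H := S.hyp
  have L := T.dlab
  set M := (six z u φ ψ).gp with hM
  have hmem : ∀ g ∈ ({z, u, φ Pw, ψ Pa, ψ Pv, ψ Pe} : Set G), g ∈ M := fun g hg =>
    Subgroup.subset_closure hg
  have hz := hmem z (by simp)
  have hu := hmem u (by simp)
  have hw := hmem (φ Pw) (by simp)
  have hψ : ∀ k, ψ k ∈ M := fun k => by
    have : M.comap ψ = ⊤ := gen_top _ (hmem _ (by simp)) (hmem _ (by simp)) (hmem _ (by simp))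
    exact Subgroup.mem_comap.mp (this ▸ Subgroup.mem_top k)
  have hU : ∀ i, U ψ u i ∈ M := fun i => mul_mem (mul_mem (inv_mem (hψ _)) hu) (hψ _)
  have hQ : ∀ q ∈ Q, q ∈ M := fun q hq => by
    obtain ⟨e, rfl⟩ := L.mon_surj S hq
    have hp : ∀ (b : Bool) {a : G}, a ∈ M → pb b a ∈ M := fun b a ha => by
      cases b
      · exact one_mem M
      · exact ha
    exact mul_mem (mul_mem (mul_mem (mul_mem (hp _ hz) (hp _ (hU 0))) (hp _ (hU 1))) (hp _ (hU 2)))
      (hp _ (hU 3))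
  have hC : ∀ {g : G}, Commute g z → g ∈ M := fun {g} hg => by
    obtain ⟨k, hk⟩ := T.decomp hg
    simpa using mul_mem (hψ k) (hQ _ hk)
  have hr : φ Pr ∈ M := by
    rw [Pr, map_mul, map_mul, map_mul, T.xlab.hu]
    exact mul_mem (mul_mem (mul_mem hw hw) hu) hw
  obtain ⟨hrz, hru⟩ := T.rot
  have hru2 : φ Pr * u * (φ Pr)⁻¹ = z := by rw [← hrz]; group
  have hh : h ∈ M := by
    have h1 : Commute (φ Pr * h) z := by
      refine mul_inv_eq_iff_eq_mul.mp ?_
      rw [show φ Pr * h * z * (φ Pr * h)⁻¹ = φ Pr * (h * z * h⁻¹) * (φ Pr)⁻¹ by group, S.ctx.pair.hz,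
        hru2]
    simpa using mul_mem (inv_mem hr) (hC h1)
  have hc : c ∈ M := hQ c (mem_AA.mp S.ctx.hc).1
  have hx : x ∈ M := by
    have := hQ _ (mem_AA.mp (mem_BB.mp S.ctx.hx)).1
    simpa [mul_assoc] using mul_mem (mul_mem hh this) (inv_mem hh)
  -- `M` is a group of the same kind
  set z' : M := ⟨z, hz⟩
  set Q' : Subgroup M := Q.subgroupOf M
  have hcomm : ∀ {g : M}, Commute g z' → Commute (g : G) z := fun hg => congrArg Subtype.val hg
  let ι : Subgroup.centralizer ({z'} : Set M) →* Subgroup.centralizer ({z} : Set G) :=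
    (M.subtype.comp (Subgroup.subtype _)).codRestrict _ fun g =>
      mem_C.mpr (hcomm (Subgroup.mem_centralizer_singleton_iff.mp g.2))
  have hιs : Function.Surjective ι := fun g =>
    ⟨⟨⟨g, hC (mem_C.mp g.2)⟩, Subgroup.mem_centralizer_singleton_iff.mpr (Subtype.ext (mem_C.mp g.2))⟩,
      rfl⟩
  have hQM : Q ≤ M := hQ
  have W' : Two z' Q' (χ.comp ι) := by
    refine ⟨⟨?_, fun g hg => Subgroup.mem_centralizer_singleton_iff.mpr ?_, H.surj.comp hιs, ?_, ?_, ?_,
      H.zmem, fun g hg hq => H.self g (hcomm hg) fun q hq' => congrArg Subtype.val (hq ⟨q, hQM hq'⟩ hq'),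
      ?_⟩, ?_⟩
    · rw [Subgroup.orderOf_mk, H.ord]
    · exact Subtype.ext (H.comm_z hg).eq
    · exact fun g => H.ker (ι g)
    · exact HJ.isExtraspecial_congr (Subgroup.subgroupOfEquivOfLe hQM).symm H.extra
    · rw [Nat.card_congr (Subgroup.subgroupOfEquivOfLe hQM).toEquiv, H.card]
    · refine ⟨⟨h, hh⟩, ?_, ?_⟩
      · show h * z * h⁻¹ ∈ Q
        rw [S.ctx.pair.hz]; exact S.ctx.pair.sat.1
      · intro e
        exact S.ctx.pair.u_ne (S.ctx.pair.hz.symm.trans (congrArg Subtype.val e))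
    · refine ⟨z', ⟨x * c, mul_mem hx hc⟩, by rw [Subgroup.orderOf_mk, H.ord],
        by rw [Subgroup.orderOf_mk]; exact S.two.ord_y S.ctx, fun e => ?_⟩
      exact S.two.nconj S.ctx (M.subtype.map_isConj e)
  obtain ⟨u', h', x', c', X', S'⟩ := W'.exists_full
  exact Subgroup.eq_top_of_card_eq M (S'.card_G.trans S.card_G.symm)

end Std

/-- Groups of Hall–Janko type are unique up to isomorphism. -/
theorem equiv_of_two {G' : Type*} [Group G'] [Finite G'] {z' : G'} {Q' : Subgroup G'}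
    {χ' : Subgroup.centralizer ({z'} : Set G') →* A5} (W : Two z Q χ) (W' : Two z' Q' χ') :
    Nonempty (G ≃* G') := by
  obtain ⟨u, h, x, c, X0, φ, ψ, T⟩ := exists_std W
  obtain ⟨u', h', x', c', X0', φ', ψ', T'⟩ := exists_std W'
  exact equiv_of_rels T.rels T'.rels T.gen T'.gen T.full.card_G T'.full.card_G

end H36.J2U
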