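import Cfsg.Agent.H36.HJ.Main
import Cfsg.Agent.H85.BrauerSuzuki
import Cfsg.Agent.CompBasic
import Cfsg.Agent.H76.Basic

/-!
In a simple group with an involution centraliser `2^(1+4).A₅` of minus type the involution is not weakly
closed in the extraspecial subgroup.
-/

set_option autoImplicit false

namespace H36.J2U

open H36.HJ

local notation "A5" => alternatingGroup (Fin 5)

variable {G : Type*} [Group G] [Finite G]

/-- The hypothesis of the simple-group statement. -/
structure Minus (t : G) (Q : Subgroup G) (χ : Subgroup.centralizer ({t} : Set G) →* A5) : Prop where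
  ord : orderOf t = 2
  le : Q ≤ Subgroup.centralizer ({t} : Set G)
  surj : Function.Surjective χ
  ker : ∀ x : Subgroup.centralizer ({t} : Set G), χ x = 1 ↔ (x : G) ∈ Q
  extra : Cfsg.IsExtraspecial 2 Q
  card : Nat.card Q = 32
  tmem : t ∈ Q
  minus : ∀ E : Subgroup Q, Cfsg.IsElementaryAbelian 2 E → Nat.card E ≤ 2 ^ 2

variable {t : G} {Q : Subgroup G} {χ : Subgroup.centralizer ({t} : Set G) →* A5}

theorem Minus.conj_mem (H : Minus t Q χ) {c q : G} (hc : Commute c t) (hq : q ∈ Q) :
    c * q * c⁻¹ ∈ Q := by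
  have hcC : c ∈ Subgroup.centralizer ({t} : Set G) := Subgroup.mem_centralizer_singleton_iff.mpr hc.eq
  refine (H.ker (⟨c, hcC⟩ * ⟨q, H.le hq⟩ * ⟨c, hcC⟩⁻¹)).mp ?_
  rw [map_mul, map_mul, map_inv, (H.ker ⟨q, H.le hq⟩).mpr hq, mul_one, mul_inv_cancel]

theorem Minus.center_cases (H : Minus t Q χ) {q : Q} (hq : q ∈ Subgroup.center Q) :
    (q : G) = 1 ∨ (q : G) = t := by
  have ht : (⟨t, H.tmem⟩ : Q) ∈ Subgroup.center Q := Subgroup.mem_center_iff.mpr fun r =>
    Subtype.ext (Subgroup.mem_centralizer_singleton_iff.mp (H.le r.2))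
  have hne : (⟨t, H.tmem⟩ : Q) ≠ 1 := fun e => by
    have := H.ord
    rw [show t = 1 from congrArg Subtype.val e, orderOf_one] at this
    omega
  obtain ⟨a, b, -, huniv⟩ := Nat.card_eq_two_iff.mp H.extra.2
  have m : ∀ r : Subgroup.center Q, r = a ∨ r = b := fun r => by
    have := huniv ▸ Set.mem_univ r
    simpa using this
  rcases m ⟨q, hq⟩ with p | p <;> rcases m ⟨_, ht⟩ with p' | p' <;> rcases m 1 with r | r <;>
    first
    | exact absurd (congrArg Subtype.val (p'.trans r.symm)) hne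
    | exact Or.inl (congrArg (fun x : Subgroup.center Q => ((x : Q) : G)) (p.trans r.symm))
    | exact Or.inr (congrArg (fun x : Subgroup.center Q => ((x : Q) : G)) (p.trans p'.symm))

theorem Minus.step (H : Minus t Q χ) (wc : ∀ g : G, g * t * g⁻¹ ∈ Q → g * t * g⁻¹ = t) {x : G}
    (hx : IsConj t x) (hxt : Commute x t) (hne : x ≠ t) :
    IsConj t (x * t) ∧ ∃ b ∈ Q, b ≠ 1 ∧ b ≠ t ∧ Commute b x ∧ IsConj t (x * b) := by
  classical
  haveI : Fact (Nat.Prime 2) := ⟨Nat.prime_two⟩
  obtain ⟨k, hk⟩ := isConj_iff.mp hx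
  have htt : t * t = 1 := by rw [← pow_two, ← H.ord, pow_orderOf_eq_one]
  have ht1 : t ≠ 1 := fun e => by have := H.ord; rw [e, orderOf_one] at this; omega
  have hxx : x * x = 1 := by
    rw [← hk, show k * t * k⁻¹ * (k * t * k⁻¹) = k * (t * t) * k⁻¹ by group, htt, mul_one, mul_inv_cancel]
  have hxi : x⁻¹ = x := inv_eq_of_mul_eq_one_right hxx
  set tQ : Q := ⟨t, H.tmem⟩
  set Z := Subgroup.center Q
  have htZ : tQ ∈ Z := Subgroup.mem_center_iff.mpr fun r =>
    Subtype.ext (Subgroup.mem_centralizer_singleton_iff.mp (H.le r.2))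
  set V := Q ⧸ Z
  let mk : Q →* V := QuotientGroup.mk' Z
  have hcomm : ∀ a b : V, a * b = b * a := by
    intro a b
    obtain ⟨a, rfl⟩ := QuotientGroup.mk'_surjective Z a
    obtain ⟨b, rfl⟩ := QuotientGroup.mk'_surjective Z b
    rw [← map_mul, ← map_mul]
    refine QuotientGroup.eq.mpr ?_
    have := H6.extraspecial_commutator_mem_center H.extra b⁻¹ a⁻¹
    rwa [commutatorElement_def, inv_inv, inv_inv, mul_assoc (b⁻¹ * a⁻¹), ← mul_inv_rev a b] at this
  -- `f q = [q, x]`
  let f : Q → Q := fun q => ⟨(q : G) * (x * (q : G)⁻¹ * x⁻¹), mul_mem q.2 (H.conj_mem hxt (inv_mem q.2))⟩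
  have hf1 : ∀ q r : Q, (f (q * r) : G) = q * f r * (q : G)⁻¹ * f q := fun q r => by
    simp only [f, Subgroup.coe_mul]; group
  let φ : Q →* V := MonoidHom.mk' (fun q => mk (f q)) fun q r => by
    have : f (q * r) = q * f r * q⁻¹ * f q := Subtype.ext (hf1 q r)
    rw [this, map_mul, map_mul, map_mul, hcomm (mk q) (mk (f r)), map_inv, mul_inv_cancel_right, hcomm]
  set K := φ.ker
  have hK : ∀ {q : Q}, q ∈ K ↔ f q ∈ Z := fun {q} => QuotientGroup.eq_one_iff (f q)
  have hinv : ∀ q : Q, x * (f q : G) * x⁻¹ = (f q : G)⁻¹ := fun q => by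
    simp only [f, hxi]
    calc x * ((q : G) * (x * (q : G)⁻¹ * x)) * x = x * (q : G) * x * (q : G)⁻¹ * (x * x) := by group
      _ = ((q : G) * (x * (q : G)⁻¹ * x))⁻¹ := by rw [hxx, mul_inv_rev, mul_inv_rev, mul_inv_rev, hxi]; group
  have hφφ : ∀ q, f q ∈ K := fun q => by
    rw [hK]
    have e : f (f q) = f q * f q := by
      refine Subtype.ext ?_
      show (f q : G) * (x * (f q : G)⁻¹ * x⁻¹) = _
      rw [show x * (f q : G)⁻¹ * x⁻¹ = (x * (f q : G) * x⁻¹)⁻¹ by group, hinv, inv_inv]
      rfl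
    rw [e]
    exact (QuotientGroup.eq_one_iff _).mp (show mk (f q * f q) = 1 by
      obtain ⟨a, ha⟩ : ∃ a, a = f q := ⟨_, rfl⟩
      rw [← ha]
      refine (QuotientGroup.eq_one_iff _).mpr ?_
      rw [← pow_two, show Z = frattini Q from H.extra.1.2.1.symm]
      exact H76.pow_mem_frattini H.extra.1.1 a)
  -- centralisers of `x` in `Q` have order at most four
  set P : Subgroup Q := (Subgroup.centralizer ({x} : Set G)).comap Q.subtype
  have hP : ∀ {q : Q}, q ∈ P ↔ Commute (q : G) x := fun {q} =>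
    Subgroup.mem_centralizer_singleton_iff
  have hPsq : ∀ q : Q, q ∈ P → q * q = 1 := by
    intro q hq
    have hqq : (q : G) * q = 1 ∨ (q : G) * q = t := by
      refine H.center_cases (q := q * q) ?_
      rw [← pow_two, show Subgroup.center Q = frattini Q from H.extra.1.2.1.symm]
      exact H76.pow_mem_frattini H.extra.1.1 q
    refine hqq.elim (fun e => Subtype.ext e) fun e => absurd ?_ hne
    set y := k⁻¹ * (q : G) * k
    have hy : Commute y t := by
      have := (conj_commute_iff (g := k⁻¹)).mpr (hP.mp hq)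
      rw [← hk, show k⁻¹ * (k * t * k⁻¹) * (k⁻¹)⁻¹ = t by group] at this
      simpa [y] using this
    set yC : Subgroup.centralizer ({t} : Set G) := ⟨y, Subgroup.mem_centralizer_singleton_iff.mpr hy.eq⟩
    have hy2 : y * y = k⁻¹ * t * k := by rw [← e]; simp only [y]; group
    have hχ : χ (yC * yC) = 1 := by
      have h4 : χ yC ^ 4 = 1 := by
        rw [← map_pow]
        refine (H.ker _).mpr ?_
        rw [SubgroupClass.coe_pow, show (y : G) ^ 4 = y * y * (y * y) by rw [pow_succ, pow_succ, pow_two, mul_assoc], hy2,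
          show k⁻¹ * t * k * (k⁻¹ * t * k) = k⁻¹ * (t * t) * k by group, htt, mul_one, inv_mul_cancel]
        exact one_mem Q
      rw [map_mul]
      exact HJ.a5_four _ h4
    have hQm : k⁻¹ * t * k ∈ Q := hy2 ▸ (H.ker _).mp hχ
    have h5 := wc k⁻¹ (by simpa using hQm)
    rw [← hk]
    calc k * t * k⁻¹ = k * (k⁻¹ * t * k⁻¹⁻¹) * k⁻¹ := by rw [h5]
      _ = t := by group
  have hP4 : Nat.card P ≤ 4 := by
    refine H.minus P ⟨?_, ?_⟩
    · refine ⟨⟨fun a b => ?_⟩⟩
      have ha : (a : Q)⁻¹ = a := inv_eq_of_mul_eq_one_right (hPsq _ a.2)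
      have hb : (b : Q)⁻¹ = b := inv_eq_of_mul_eq_one_right (hPsq _ b.2)
      have hab : ((a : Q) * b)⁻¹ = a * b := inv_eq_of_mul_eq_one_right (hPsq _ (mul_mem a.2 b.2))
      exact Subtype.ext (by rw [mul_inv_rev, ha, hb] at hab; exact hab.symm)
    · intro a ha
      rw [pow_two]
      exact hPsq a ha
  -- counting
  have hPK : P ≤ K := fun q hq => hK.mpr (by
    rw [show f q = 1 from Subtype.ext (by
      show (q : G) * (x * (q : G)⁻¹ * x⁻¹) = 1
      rw [(hP.mp hq).symm.inv_right.eq, mul_inv_cancel_right, mul_inv_cancel])]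
    exact one_mem Z)
  have hK8 : Nat.card K ≤ 2 * Nat.card P := by
    let θ : K →* Z := MonoidHom.mk' (fun q => ⟨f q, hK.mp q.2⟩) fun q r => by
      refine Subtype.ext (Subtype.ext ?_)
      show (f (q * r : Q) : G) = (f q : G) * f r
      rw [hf1]
      have hc := congrArg Subtype.val (Subgroup.mem_center_iff.mp (hK.mp r.2) (q : Q))
      have hc' := congrArg Subtype.val (Subgroup.mem_center_iff.mp (hK.mp r.2) (f q : Q))
      simp only [Subgroup.coe_mul] at hc hc'
      rw [hc, mul_inv_cancel_right, hc']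
    have hker : Nat.card θ.ker = Nat.card P := by
      refine Nat.card_congr
        { toFun := fun q => ⟨((q : K) : Q), ?_⟩
          invFun := fun q => ⟨⟨(q : Q), hPK q.2⟩, ?_⟩
          left_inv := fun q => rfl
          right_inv := fun q => rfl }
      · have e := congrArg (fun r : Z => ((r : Q) : G)) q.2
        change ((q : K) : G) * (x * ((q : K) : G)⁻¹ * x⁻¹) = 1 at e
        rw [← mul_assoc, mul_inv_eq_one, ← mul_assoc, mul_inv_eq_iff_eq_mul] at e
        exact hP.mpr e
      · refine MonoidHom.mem_ker.mpr (Subtype.ext (Subtype.ext ?_))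
        show ((q : Q) : G) * (x * ((q : Q) : G)⁻¹ * x⁻¹) = 1
        rw [(hP.mp q.2).symm.inv_right.eq, mul_inv_cancel_right, mul_inv_cancel]
    rw [← Subgroup.card_mul_index θ.ker, Subgroup.index_ker, hker, mul_comm 2]
    exact Nat.mul_le_mul_left _ ((Subgroup.card_le_card_group _).trans (le_of_eq H.extra.2))
  have hrange : φ.range ≤ K.map mk := by
    rintro _ ⟨q, rfl⟩
    exact ⟨f q, hφφ q, rfl⟩
  have htK : Z ≤ K := fun q hq => hPK (hP.mpr (by
    rcases H.center_cases hq with e | e <;> rw [e]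
    exacts [Commute.one_left x, hxt.symm]))
  have hmap : Nat.card (K.map mk) * 2 = Nat.card K := by
    rw [← Subgroup.card_mul_index (Z.subgroupOf K),
      Nat.card_congr (Subgroup.subgroupOfEquivOfLe htK).toEquiv, H.extra.2, mul_comm]
    congr 1
    rw [← Subgroup.range_subtype K, ← MonoidHom.range_comp, ← Subgroup.index_ker, Subgroup.range_subtype]
    congr 1
    ext q
    rw [MonoidHom.mem_ker, Subgroup.mem_subgroupOf]
    show mk (q : Q) = 1 ↔ _
    exact QuotientGroup.eq_one_iff _
  have hQcard : Nat.card K * Nat.card φ.range = 32 := by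
    rw [← Subgroup.index_ker, Subgroup.card_mul_index, H.card]
  have hr := Nat.le_of_dvd Nat.card_pos (Subgroup.card_dvd_of_le hrange)
  have hK8' : Nat.card K = 8 := by
    have h8 : Nat.card K ≤ 8 := by omega
    interval_cases h : Nat.card K <;> omega
  have hP4' : Nat.card P = 4 := by omega
  have heq : φ.range = K.map mk := Subgroup.eq_of_le_of_card_ge hrange (by
    rw [hK8'] at hQcard hmap; omega)
  have hfx : ∀ q : Q, IsConj t ((f q : G) * x) := fun q => by
    refine hx.trans (isConj_iff.mpr ⟨(q : G), ?_⟩)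
    simp only [f, hxi]
    rw [show (q : G) * (x * (q : G)⁻¹ * x) * x = q * x * (q : G)⁻¹ * (x * x) by group, hxx, mul_one]
  refine ⟨?_, ?_⟩
  · obtain ⟨q, hqK, hqP⟩ : ∃ q ∈ K, q ∉ P := by
      by_contra hc
      push Not at hc
      have := Nat.le_of_dvd Nat.card_pos (Subgroup.card_dvd_of_le (show K ≤ P from hc))
      omega
    rcases H.center_cases (hK.mp hqK) with e | e
    · exfalso
      apply hqP
      change (q : G) * (x * (q : G)⁻¹ * x⁻¹) = 1 at e
      rw [← mul_assoc, mul_inv_eq_one, ← mul_assoc, mul_inv_eq_iff_eq_mul] at e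
      exact hP.mpr e
    · rw [show x * t = (f q : G) * x by rw [e, hxt.eq]]
      exact hfx q
  · obtain ⟨a, haP, haZ⟩ : ∃ a ∈ P, a ∉ Z := by
      by_contra hc
      push Not at hc
      have := Nat.le_of_dvd Nat.card_pos (Subgroup.card_dvd_of_le (show P ≤ Z from hc))
      rw [H.extra.2, hP4'] at this
      omega
    obtain ⟨q, hq⟩ : mk a ∈ φ.range := heq ▸ Subgroup.mem_map_of_mem mk (hPK haP)
    have hz : a⁻¹ * f q ∈ Z := QuotientGroup.eq.mp (show mk a = mk (f q) from hq.symm)
    have hfZ : f q ∉ Z := fun hm => haZ (by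
      simpa using inv_mem (mul_mem hz (inv_mem hm)))
    refine ⟨(f q : G), (f q).2, fun e => hfZ ?_, fun e => hfZ ?_, ?_, ?_⟩
    · rw [show f q = 1 from Subtype.ext e]; exact one_mem Z
    · rw [show f q = tQ from Subtype.ext e]; exact htZ
    · have hc : f q ∈ P := by
        have := mul_mem haP (hP.mpr (by
          rcases H.center_cases hz with e | e <;> rw [e]
          exacts [Commute.one_left x, hxt.symm]))
        rwa [mul_inv_cancel_left] at this
      exact hP.mp hc
    · have hc : Commute (f q : G) x := by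
        have := mul_mem haP (hP.mpr (by
          rcases H.center_cases hz with e | e <;> rw [e]
          exacts [Commute.one_left x, hxt.symm]))
        rw [mul_inv_cancel_left] at this
        exact hP.mp this
      rw [← hc.eq]
      exact hfx q

theorem Minus.nwc [IsSimpleGroup G] (H : Minus t Q χ) :
    ∃ g : G, g * t * g⁻¹ ∈ Q ∧ g * t * g⁻¹ ≠ t := by
  classical
  haveI : Fact (Nat.Prime 2) := ⟨Nat.prime_two⟩
  by_contra hc
  push Not at hc
  have ht1 : t ≠ 1 := fun e => by have := H.ord; rw [e, orderOf_one] at this; omega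
  -- Glauberman
  obtain ⟨g, hgt, hgne⟩ : ∃ g : G, Commute t (g * t * g⁻¹) ∧ g * t * g⁻¹ ≠ t := by
    by_contra hiso
    push Not at hiso
    have hcore : Cfsg.pPrimeCore 2 G = ⊥ := by
      refine (Subgroup.Normal.eq_bot_or_eq_top (inferInstance : (Cfsg.pPrimeCore 2 G).Normal)).resolve_right
        fun e => ?_
      have h2 := Cfsg.Comp.pPrimeCore_coprime (G := G) 2
      rw [e, Subgroup.card_top] at h2
      have hd : 2 ∣ Nat.card G := H.ord ▸ orderOf_dvd_natCard t
      exact absurd (Nat.Coprime.coprime_dvd_left hd h2) (by norm_num)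
    have hz := H85.zStar (u := t) ⟨H.ord, fun g hg => hiso g hg⟩
    have hcen : t ∈ Subgroup.center G := Subgroup.mem_center_iff.mpr fun g => by
      have := hz g
      rw [hcore, Subgroup.mem_bot, mul_inv_eq_one, mul_inv_eq_iff_eq_mul] at this
      exact this.symm
    have htop : Subgroup.center G = ⊤ :=
      (Subgroup.Normal.eq_bot_or_eq_top (inferInstance : (Subgroup.center G).Normal)).resolve_left
        fun e => ht1 (Subgroup.mem_bot.mp (e ▸ hcen))
    obtain ⟨a, ha⟩ := H.surj (⟨Equiv.swap 0 1 * Equiv.swap 2 3, by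
      rw [Equiv.Perm.mem_alternatingGroup]; decide⟩ : A5)
    obtain ⟨b, hb⟩ := H.surj (⟨Equiv.swap 0 1 * Equiv.swap 1 2, by
      rw [Equiv.Perm.mem_alternatingGroup]; decide⟩ : A5)
    have hab : a * b = b * a := Subtype.ext
      (Subgroup.mem_center_iff.mp (htop ▸ Subgroup.mem_top (b : G)) (a : G))
    have := congrArg χ hab
    rw [map_mul, map_mul, ha, hb] at this
    exact absurd this (by decide +kernel)
  set t' := g⁻¹ * t * g
  have ht'c : IsConj t t' := isConj_iff.mpr ⟨g⁻¹, by simp [t']⟩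
  have hct : Commute t' t := by
    have := (conj_commute_iff (g := g⁻¹)).mpr hgt
    simpa [t', mul_assoc] using this
  have ht'ne : t' ≠ t := fun e => hgne (by
    have e' : g⁻¹ * t * g = t := e
    calc g * t * g⁻¹ = g * (g⁻¹ * t * g) * g⁻¹ := by rw [e']
      _ = t := by group)
  obtain ⟨-, b, hbQ, hb1, hbt, hbc, hcb⟩ := H.step hc ht'c hct ht'ne
  have htb : Commute b t := Subgroup.mem_centralizer_singleton_iff.mp (H.le hbQ)
  -- transport to the frame where `t'` is central
  set x := g * (t' * b) * g⁻¹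
  have hgt' : g * t' * g⁻¹ = t := by simp only [t']; group
  have hxc : IsConj t x := hcb.trans (isConj_iff.mpr ⟨g, rfl⟩)
  have hxt : Commute x t := by
    rw [← hgt']
    exact conj_commute_iff.mpr ((Commute.refl t').mul_left hbc)
  have hxne : x ≠ t := fun e => hb1 (by
    have e' : g * (t' * b) * g⁻¹ = g * t' * g⁻¹ := e.trans hgt'.symm
    simpa using e')
  obtain ⟨hxtc, -⟩ := H.step hc hxc hxt hxne
  have hb' : IsConj t b := by
    have htt : t' * t' = 1 := by
      have : t * t = 1 := by rw [← pow_two, ← H.ord, pow_orderOf_eq_one]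
      show g⁻¹ * t * g * (g⁻¹ * t * g) = 1
      rw [show g⁻¹ * t * g * (g⁻¹ * t * g) = g⁻¹ * (t * t) * g by group, this, mul_one, inv_mul_cancel]
    have e : x * t = g * b * g⁻¹ := by
      calc x * t = g * (t' * b) * g⁻¹ * (g * t' * g⁻¹) := by rw [hgt']
        _ = g * (t' * (b * t')) * g⁻¹ := by group
        _ = g * b * g⁻¹ := by rw [hbc.eq, ← mul_assoc t', htt, one_mul]
    rw [e] at hxtc
    exact hxtc.trans (isConj_iff.mpr ⟨g⁻¹, by group⟩)
  obtain ⟨k, hk⟩ := isConj_iff.mp hb'
  exact hbt (hk.symm.trans (hc k (by rw [hk]; exact hbQ)))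

end H36.J2U
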